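import Cfsg.Agent.T2.TF
import Cfsg.Agent.H2.F4

/-! The identification of the affine group of the plane over the field with four elements. -/

set_option autoImplicit false
set_option linter.unusedVariables false
set_option linter.unusedSectionVars false
set_option linter.style.haveILetI false

namespace T2

open Cfsg Subgroup FT H4 H5 GW MulAction Finset
open scoped Classical

theorem f4_hom {R : Type*} [Ring R] {z : R} (h1 : (1 : R) + 1 = 0) (h2 : z * z = z + 1) :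
    ∃ f : H2.F4 →+* R, ∀ c, f c = 0 ∨ f c = 1 ∨ f c = z ∨ f c = z + 1 := by
  have h3 : ∀ x : R, x + x = 0 := fun x => by rw [← mul_one x, ← mul_add, h1, mul_zero]
  have h4 : ∀ x y : R, x + (x + y) = y := fun x y => by rw [← add_assoc, h3, zero_add]
  have hm : ∀ x y : Fin 4, ![0, 1, z, z + 1] ((⟨x⟩ * ⟨y⟩ : H2.F4)).val =
      ![0, 1, z, z + 1] x * ![0, 1, z, z + 1] y := fun x y => by
    fin_cases x <;> fin_cases y
    all_goals first
      | exact (zero_mul _).symm | exact (mul_zero _).symm | exact (one_mul _).symm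
      | exact (mul_one _).symm | skip
    · exact h2.symm
    · change (1 : R) = z * (z + 1)
      rw [mul_add, h2, mul_one, add_comm z, add_assoc, h3, add_zero]
    · change (1 : R) = (z + 1) * z
      rw [add_mul, h2, one_mul, add_comm z, add_assoc, h3, add_zero]
    · change z = (z + 1) * (z + 1)
      rw [add_mul, mul_add, h2, mul_one, one_mul, add_assoc, add_assoc, h4, h3, add_zero]
  have ha : ∀ x y : Fin 4, ![0, 1, z, z + 1] ((⟨x⟩ + ⟨y⟩ : H2.F4)).val =
      ![0, 1, z, z + 1] x + ![0, 1, z, z + 1] y := fun x y => by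
    fin_cases x <;> fin_cases y
    all_goals first
      | exact (zero_add _).symm | exact (add_zero _).symm | exact (h3 _).symm | skip
    · exact add_comm _ _
    · change z = 1 + (z + 1)
      rw [add_comm z, h4]
    · rfl
    · exact (h4 _ _).symm
    · change z = z + 1 + 1
      rw [add_assoc, h1, add_zero]
    · change (1 : R) = z + 1 + z
      rw [add_comm, h4]
  have hc : ∀ x : Fin 4, ![0, 1, z, z + 1] x = 0 ∨ ![0, 1, z, z + 1] x = 1 ∨
      ![0, 1, z, z + 1] x = z ∨ ![0, 1, z, z + 1] x = z + 1 := fun x => by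
    fin_cases x <;> simp
  exact ⟨⟨⟨⟨fun c => ![0, 1, z, z + 1] c.val, rfl⟩, fun x y => hm x.1 y.1⟩, rfl,
    fun x y => ha x.1 y.1⟩, fun x => hc x.1⟩

theorem card_agl : Finite ((Fin 2 → H2.F4) ≃ᵃ[H2.F4] (Fin 2 → H2.F4)) ∧
    Nat.card ((Fin 2 → H2.F4) ≃ᵃ[H2.F4] (Fin 2 → H2.F4)) ≤ 2880 := by
  have e := (Matrix.GeneralLinearGroup.toLin (n := Fin 2) (R := H2.F4)).trans
    (LinearMap.GeneralLinearGroup.generalLinearEquiv H2.F4 (Fin 2 → H2.F4))
  haveI := Finite.of_equiv _ e.toEquiv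
  have inj : Function.Injective fun A : (Fin 2 → H2.F4) ≃ᵃ[H2.F4] (Fin 2 → H2.F4) =>
      (A 0, A.linear) := fun A B h => AffineEquiv.ext fun x => by
    have h1 := A.map_vadd 0 x
    have h2 := B.map_vadd 0 x
    simp only [Prod.mk.injEq] at h
    rw [vadd_eq_add, add_zero] at h1 h2
    rw [h1, h2, h.1, h.2]
  refine ⟨Finite.of_injective _ inj, (Nat.card_le_card_of_injective _ inj).trans_eq ?_⟩
  rw [Nat.card_prod, ← Nat.card_congr e.toEquiv, Matrix.card_GL_field, Nat.card_fun,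
    Nat.card_eq_fintype_card, H2.F4.card_F4, Nat.card_fin, Fin.prod_univ_two]
  rfl

variable {G : Type*} [Group G] [Fintype G] {Ω : Type*} [Fintype Ω] [MulAction G Ω]
  [FaithfulSMul G Ω]

theorem agl (h : TT (⊤ : Subgroup G) (univ : Finset Ω)) {N : Subgroup G} (hN : RG Ω N) {a : Ω}
    (hn : Fintype.card Ω = 16) (hG : Nat.card G = 2880) {ζ : G} (h1 : ζ • a = a)
    (h2 : orderOf ζ = 3) (h3 : ∀ g : G, g • a = a → g * ζ = ζ * g) :
    Nonempty (G ≃* ((Fin 2 → H2.F4) ≃ᵃ[H2.F4] (Fin 2 → H2.F4))) := by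
  haveI := hN.nor
  have cN := (hN.card a).trans hn
  have sq : ∀ n ∈ N, n * n = 1 := fun n hn => by
    obtain ⟨t, ht, ot⟩ := ex_inv (K := N) (by rw [cN]; decide)
    by_cases e : n = 1
    · rw [e, mul_one]
    obtain ⟨g, -, rfl⟩ := hN.conj h a ht hn (ine ot) e
    exact ii (iconj ot g)
  have fpf : ∀ n ∈ N, ζ * n * ζ⁻¹ = n → n = 1 := fun n hn e => by
    by_contra e'
    refine (show ζ ≠ 1 by rintro rfl; simp at h2) (eq_of_smul_eq_smul (α := Ω) fun x => ?_)
    obtain ⟨v, hv, rfl⟩ := hN.tr a x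
    by_cases e1 : v = 1
    · rw [e1, one_smul, one_smul, h1]
    obtain ⟨g, g1, rfl⟩ := hN.conj h a hn hv e' e1
    rw [one_smul, ← mul_smul, ← mul_assoc, ← mul_assoc, ← h3 g g1, mul_assoc g,
      mul_inv_eq_iff_eq_mul.1 e, ← mul_assoc, mul_assoc _ ζ, ← h3 g⁻¹ (inv_smul_eq_iff.2 g1.symm),
      ← mul_assoc, mul_smul, h1]
  letI : CommGroup N := { (inferInstance : Group N) with
    mul_comm := fun x y => Subtype.ext (cen.1 (hN.comm x.2) y.1 y.2) }
  have mc : ∀ x y : N, x.1 * y.1 = y.1 * x.1 := fun x y => cen.1 (hN.comm x.2) y.1 y.2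
  let L : G → Additive N ≃+ Additive N := fun g => MulEquiv.toAdditive (MulAut.conjNormal g)
  have hL : ∀ g x, ((L g x).toMul : G) = g * x.toMul * g⁻¹ := fun _ _ => rfl
  have ext : ∀ x y : Additive N, (x.toMul : G) = y.toMul → x = y := fun x y e =>
    Additive.toMul.injective (Subtype.ext e)
  have z3 : ζ * ζ * ζ = 1 := by rw [← pow_three', ← h2, pow_orderOf_eq_one]
  obtain ⟨f, hf⟩ := f4_hom (R := AddMonoid.End (Additive N)) (z := (L ζ).toAddMonoidHom)
    (AddMonoidHom.ext fun x => ext _ _ (sq _ x.toMul.2)) (AddMonoidHom.ext fun x => ext _ _ (by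
      change ζ * (ζ * x.toMul * ζ⁻¹) * ζ⁻¹ = ζ * x.toMul * ζ⁻¹ * x.toMul
      have m1 := hN.nor.conj_mem _ x.toMul.2 ζ
      have m2 := hN.nor.conj_mem _ m1 ζ
      have m3 := mul_mem m1 x.toMul.2
      have := fpf _ (mul_mem m2 m3) (by
        have e : ζ * (ζ * (ζ * x.toMul * ζ⁻¹) * ζ⁻¹) * ζ⁻¹ = x.toMul := by
          rw [show ζ * (ζ * (ζ * x.toMul * ζ⁻¹) * ζ⁻¹) * ζ⁻¹ =
            ζ * ζ * ζ * x.toMul * (ζ * ζ * ζ)⁻¹ by group, z3]; simp
        have k : ∀ p q r : G, ζ * (p * (q * r)) * ζ⁻¹ =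
            ζ * p * ζ⁻¹ * (ζ * q * ζ⁻¹ * (ζ * r * ζ⁻¹)) := fun p q r => by group
        rw [k, e]
        exact (mc _ ⟨_, mul_mem m2 m1⟩).trans (mul_assoc _ _ _))
      rw [eq_inv_of_mul_eq_one_left this, inv_eq_of_mul_eq_one_right (sq _ m3)]))
  letI : Module H2.F4 (Additive N) := Module.compHom _ f
  have sm : ∀ (c : H2.F4) (x : Additive N), c • x = f c x := fun _ _ => rfl
  have cz : ∀ g x, L g (L ζ x) = L ζ (L g x) := fun g x => ext _ _ (by
    obtain ⟨n, hn, e⟩ := hN.tr a (g • a)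
    have e1 := h3 (n⁻¹ * g) (by rw [mul_smul, inv_smul_eq_iff, e])
    have e2 : ∀ y ∈ N, g * y * g⁻¹ = n⁻¹ * g * y * (n⁻¹ * g)⁻¹ := fun y hy => by
      have := mc ⟨n, hn⟩ ⟨_, hN.nor.conj_mem y hy g⟩
      rw [mul_inv_rev, inv_inv, mul_assoc n⁻¹, mul_assoc n⁻¹, ← mul_assoc _ g⁻¹, eq_inv_mul_iff_mul_eq]
      exact this
    rw [hL, hL, hL, hL, e2 _ (hN.nor.conj_mem _ x.toMul.2 ζ), e2 _ x.toMul.2]
    generalize n⁻¹ * g = k at e1
    rw [show k * (ζ * x.toMul * ζ⁻¹) * k⁻¹ = k * ζ * x.toMul * (k * ζ)⁻¹ by group, e1]; group)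
  let L' : G → Additive N ≃ₗ[H2.F4] Additive N := fun g => { L g with
    map_smul' := fun c x => by
      change L g (f c x) = f c (L g x)
      rcases hf c with e | e | e | e <;> rw [e]
      · exact map_zero _
      · rfl
      · exact cz g x
      · change L g (L ζ x + x) = L ζ (L g x) + L g x
        rw [map_add, cz] }
  have rk : Module.finrank H2.F4 (Additive N) = 2 := by
    have := Module.natCard_eq_pow_finrank (K := H2.F4) (V := Additive N)
    rw [Nat.card_eq_fintype_card (α := H2.F4), H2.F4.card_F4, show Nat.card (Additive N) = 4 ^ 2 from cN]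
      at this
    exact (Nat.pow_right_injective (by norm_num) this).symm
  let e := (Module.finBasisOfFinrankEq H2.F4 (Additive N) rk).equivFun
  let β : Additive N ≃ Ω := Equiv.ofBijective (fun n => (n.toMul : G) • a) ⟨fun u v e => ext _ _
    (hN.eq u.toMul.2 v.toMul.2 e), fun y => let ⟨n, hn, e⟩ := hN.tr a y; ⟨Additive.ofMul ⟨n, hn⟩, e⟩⟩
  have hβ : ∀ n, β n = (n.toMul : G) • a := fun _ => rfl
  let γ := e.symm.toEquiv.trans β
  let Φ : G →* ((Fin 2 → H2.F4) ≃ᵃ[H2.F4] (Fin 2 → H2.F4)) := MonoidHom.mk'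
    (fun g => ⟨γ.trans ((toPerm g).trans γ.symm), e.symm.trans ((L' g).trans e), fun p v => by
      change γ.symm (g • β (e.symm (v + p))) = e (L g (e.symm v)) + e (β.symm (g • β (e.symm p)))
      rw [Equiv.symm_apply_eq, ← map_add]
      change _ = β (e.symm (e _))
      rw [e.symm_apply_apply, map_add, hβ, hβ, toMul_add, toMul_add, Subgroup.coe_mul,
        Subgroup.coe_mul, hL, mul_smul, mul_smul _ (Subtype.val _), ← hβ (β.symm _),
        β.apply_symm_apply, ← hβ]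
      simp [mul_smul]⟩)
    fun g k => AffineEquiv.ext fun x => by
      change γ.symm ((g * k) • γ x) = γ.symm (g • γ (γ.symm (k • γ x)))
      rw [γ.apply_symm_apply, mul_smul]
  have inj : Function.Injective Φ := fun g k e => eq_of_smul_eq_smul (α := Ω) fun x => by
    have := DFunLike.congr_fun e (γ.symm x)
    change γ.symm (g • γ _) = γ.symm (k • γ _) at this
    simpa using this
  obtain ⟨_, c⟩ := card_agl
  exact ⟨MulEquiv.ofBijective Φ (inj.bijective_of_nat_card_le (hG ▸ c))⟩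

theorem Cf.X1_agl {d : ℕ} {a b : Ω} {τ σ : G} (h : Cf 3 d a b τ σ) {z : G}
    (z1 : z ∈ Cen (St G a b)) (z2 : z * z = 1) (z3 : z • a = b) (z0 : z ∉ DD G Ω)
    (ho : Fintype.card Ω % 2 = 0) : Fintype.card Ω = 16 ∧
      Nonempty (G ≃* ((Fin 2 → H2.F4) ≃ᵃ[H2.F4] (Fin 2 → H2.F4))) := by
  obtain ⟨hi, hj⟩ := h.X1_num z1 z2 z3 z0 rfl ho
  obtain ⟨N, hN⟩ := h.X1_even z1 z2 z3 z0 ho
  have hn := h.X1_n z1 z2 z3 z0
  rw [hi] at hn
  have e : ∀ {x : G} (hx : x ∈ stabilizer G a), Cen1 (⟨x, hx⟩ : stabilizer G a) =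
      (Cen1 x).subgroupOf (stabilizer G a) := fun hx => by
    ext y; rw [mem_subgroupOf, c1, c1, Subtype.ext_iff]; rfl
  have e1 : HH τ σ ⊓ stabilizer G a = Cen1 τ ⊓ stabilizer G a :=
    eq_of_le_of_card_ge (inf_le_inf_right _ inf_le_left) (by rw [h.cCa, h.cHa, hi, hj])
  obtain ⟨ζ, h1, h2⟩ := cen3 (X := stabilizer G a) (by rw [h.cGa, hn]; rfl) (h.Ga_one ho).sub
    (h.f4.sub h.tK.1 h.sK.1) (fun y hy => by
      rw [e] at hy ⊢
      exact h.Ha_le (by omega) (e1.ge ⟨hy, y.2⟩)) (by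
      rw [e, ← inf_subgroupOf_right, Nat.card_congr (subgroupOfEquivOfLe inf_le_right).toEquiv,
        h.cCa, hi])
  exact ⟨hn, agl h.tt hN (a := a) hn (by rw [h.cG, hn]; rfl) ζ.2 (by simpa using h1)
    fun g hg => congrArg Subtype.val (h2 ⟨g, hg⟩)⟩

end T2
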