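import Cfsg.Agent.T2.Alt

/-! Facts on `A₄` and `A₅` and their involutory automorphisms. -/

set_option autoImplicit false
set_option linter.unusedVariables false
set_option linter.unusedSectionVars false
set_option linter.style.haveILetI false

namespace T2

open Cfsg Subgroup FT H4 H5 GW Equiv

/-- a product of two transpositions -/
def sa {n : ℕ} (a b c d : Fin n) (h : a ≠ b ∧ c ≠ d := by decide) : alternatingGroup (Fin n) :=
  ⟨swap a b * swap c d, by simp [Perm.mem_alternatingGroup, h.1, h.2]⟩

set_option synthInstance.maxSize 2000 in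
theorem af4 : AF (alternatingGroup (Fin 4)) 3 6 := by
  refine af_of (x := sa 0 1 0 2) (y := sa 0 1 2 3) (r := 3) ?_ (by decide +kernel)
    (by decide +kernel) (by decide +kernel) (by decide +kernel) (by decide +kernel)
    (fun S h1 h2 => eq_top_iff.2 fun g _ => ?_) (by decide +kernel)
  · have := two_mul_nat_card_alternatingGroup (α := Fin 4)
    rw [Nat.card_perm, Nat.card_fin] at this
    simp only [Nat.factorial] at this
    omega
  · have : ∀ g : alternatingGroup (Fin 4), ∃ i j k : Fin 3, g = sa 0 1 0 2 ^ i.1 * sa 0 1 2 3 ^ j.1 *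
      sa 0 1 0 2 ^ k.1 := by decide +kernel
    obtain ⟨i, j, k, rfl⟩ := this g
    exact mul_mem (mul_mem (pow_mem h1 _) (pow_mem h2 _)) (pow_mem h1 _)

set_option synthInstance.maxSize 2000 in
theorem af5 : AF (alternatingGroup (Fin 5)) 15 10 := by
  refine af_of (x := sa 0 1 0 2) (y := sa 0 3 1 4) (r := 5) card_A5 (by decide +kernel)
    (by decide +kernel) (by decide +kernel) (by decide +kernel) (by decide +kernel)
    (fun S h1 h2 => ?_) (by decide +kernel)
  have k : ∀ i : Fin 5, ∃ g : S.map (alternatingGroup (Fin 5)).subtype, g • (0 : Fin 5) = i := fun i => by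
    have e : ∀ {g}, g ∈ S → ∃ g' : S.map (alternatingGroup (Fin 5)).subtype,
        g' • (0 : Fin 5) = g.1 0 := fun hg => ⟨⟨_, mem_map_of_mem _ hg⟩, rfl⟩
    fin_cases i
    exacts [e (one_mem S), e (inv_mem h1), e h1, e h2, e (mul_mem h2 (inv_mem h1))]
  haveI : MulAction.IsPretransitive (S.map (alternatingGroup (Fin 5)).subtype) (Fin 5) :=
    ⟨fun i j => by
      obtain ⟨g, rfl⟩ := k i
      obtain ⟨g', rfl⟩ := k j
      exact ⟨g' * g⁻¹, by rw [mul_smul, inv_smul_smul]⟩⟩
  have := Perm.alternatingGroup_le_of_isPreprimitive_of_isThreeCycle_mem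
    (MulAction.IsPreprimitive.of_prime_card (by rw [Nat.card_fin]; decide))
    (Perm.isThreeCycle_swap_mul_swap_same (by decide) (by decide) (by decide))
    (mem_map_of_mem (alternatingGroup (Fin 5)).subtype h1)
  exact eq_top_iff.mpr fun g _ =>
    (mem_map_iff_mem (alternatingGroup (Fin 5)).subtype_injective).mp (this g.2)

end T2
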