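import Cfsg.Agent.T2.TX2
import Cfsg.Agent.L.ZStar

/-! The conclusions in the dihedral case. -/

set_option autoImplicit false
set_option linter.unusedVariables false
set_option linter.unusedSectionVars false
set_option linter.style.haveILetI false

namespace T2

open Cfsg Subgroup FT H4 H5 GW MulAction Finset
open scoped Classical

variable {G : Type*} [Group G] [Fintype G] {Ω : Type*} [Fintype Ω] [MulAction G Ω]
  [FaithfulSMul G Ω]

theorem n_dvd (h : TT (⊤ : Subgroup G) (univ : Finset Ω)) {N : Subgroup G} (h1 : N.Normal)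
    (h2 : N ≠ ⊥) (a : Ω) : Nat.card N = Fintype.card Ω * Nat.card ↥(N ⊓ stabilizer G a) := by
  rw [H2.card_eq_orbit_mul N a Set.univ fun x => ⟨fun _ => ntrans h h1 h2 a x, fun _ => trivial⟩,
    Set.ncard_univ, Nat.card_eq_fintype_card (α := Ω)]

theorem no28 (h : TT (⊤ : Subgroup G) (univ : Finset Ω)) (a : Ω) (hn : Fintype.card Ω = 28)
    (hG : Nat.card G = 9072) (hC : ∀ t : G, orderOf t = 2 → Nat.card (Cen1 t) = 48) : False := by
  haveI : Fact (Nat.Prime 7) := ⟨by norm_num⟩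
  obtain ⟨P⟩ : Nonempty (Sylow 7 G) := inferInstance
  have cP : Nat.card P = 7 := by
    rw [P.card_eq_multiplicity, hG]
    have : Nat.factorization 9072 7 = 1 := by
      rw [show 9072 = 7 * 1296 from rfl, Nat.factorization_mul (by norm_num) (by norm_num),
        Finsupp.add_apply, Nat.Prime.factorization_self (by norm_num),
        Nat.factorization_eq_zero_of_not_dvd (by norm_num)]
    rw [this]; rfl
  haveI : IsCyclic P := isCyclic_of_prime_card cP
  have h1 : ¬ 2 ∣ Nat.card (Cen (P : Subgroup G)) := fun e => by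
    obtain ⟨t, ht, ot⟩ := ex_inv (K := Cen (P : Subgroup G)) (by rw [Nat.odd_iff]; omega)
    have := card_dvd_of_le (cen_iff_le.1 ht)
    rw [cP, hC t ot] at this
    omega
  have h2 : (Cen (P : Subgroup G)).relIndex (Nor (P : Subgroup G)) ∣ 6 := by
    have key := card_dvd_of_injective _
      (QuotientGroup.kerLift_injective (P : Subgroup G).normalizerMonoidHom)
    rwa [normalizerMonoidHom_ker, ← index, ← relIndex, IsCyclic.card_mulAut, cP] at key
  have h3 := card_mul_relIndex (cnor (le_refl (Cen (P : Subgroup G))))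
  have h4 := (Nor (P : Subgroup G)).card_mul_index
  have h5 := card_sylow_modEq_one 7 G
  rw [P.card_eq_index_normalizer] at h5
  change (Nor (P : Subgroup G)).index ≡ 1 [MOD 7] at h5
  have h6 : ¬ 4 ∣ Nat.card (Nor (P : Subgroup G)) := fun e => by
    rw [← h3] at e
    have := (Nat.Coprime.pow_left 2 (Nat.prime_two.coprime_iff_not_dvd.2 h1)).dvd_of_dvd_mul_left e
    exact absurd (this.trans h2) (by norm_num)
  obtain ⟨r, hr⟩ := card_dvd_of_le (le_normalizer : (P : Subgroup G) ≤ Nor (P : Subgroup G))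
  rw [cP] at hr
  rw [hG, hr] at h4
  have h7 : (Nor (P : Subgroup G)).index = 8 ∨ r = 1 := by
    rw [hr] at h6
    generalize (Nor (P : Subgroup G)).index = n at h4 h5
    have e : r * n = 1296 := by linarith
    have e' : r ∈ Nat.divisors 1296 := Nat.mem_divisors.2 ⟨⟨n, e.symm⟩, by norm_num⟩
    have e'' : n = 1296 / r := by
      rw [← e, Nat.mul_div_cancel_left _ (Nat.pos_of_mem_divisors e')]
    subst e''
    revert h5 h6
    clear e h4 hr
    revert r
    unfold Nat.ModEq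
    decide +kernel
  rcases h7 with e | rfl
  · by_cases e0 : (Nor (P : Subgroup G)).normalCore = ⊥
    · have : (Nor (P : Subgroup G)).normalCore.index ∣ (Nor (P : Subgroup G)).index.factorial := by
        rw [normalCore_eq_ker, index_ker, index_eq_card, ← Nat.card_perm]
        exact card_subgroup_dvd_card (toPermHom G (G ⧸ Nor (P : Subgroup G))).range
      rw [e0, index_bot, hG, e] at this
      exact absurd this (by decide)
    · have := card_dvd_of_le (Nor (P : Subgroup G)).normalCore_le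
      rw [n_dvd h inferInstance e0 a, hn] at this
      exact h6 (dvd_trans (dvd_mul_of_dvd_left (by norm_num) _) this)
  · have e : (P : Subgroup G) = Nor (P : Subgroup G) :=
      eq_of_le_of_card_ge le_normalizer (by rw [hr, cP])
    have hP : Nor (P : Subgroup G) ≤ Cen (P : Subgroup G) := e ▸ le_centralizer _
    have c := (MonoidHom.ker_transferSylow_isComplement' P hP).card_mul_card
    rw [cP, hG] at c
    have := n_dvd h (N := (MonoidHom.transferSylow P hP).ker) inferInstance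
      (fun e => by rw [e, card_bot] at c; omega) a
    rw [hn] at this
    omega

theorem iso_alt {n : ℕ} (hn : Fintype.card Ω = n) (hG : 2 * Nat.card G = n.factorial) :
    Nonempty (G ≃* alternatingGroup (Fin n)) := by
  have e := Fintype.equivFinOfCardEq hn
  have h1 : (toPermHom G Ω).range = alternatingGroup Ω := by
    refine Equiv.Perm.eq_alternatingGroup_of_index_eq_two ?_
    have := (toPermHom G Ω).range.card_mul_index
    rw [← Nat.card_congr (MonoidHom.ofInjective (toPerm_injective (α := G) (β := Ω))).toEquiv,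
      Nat.card_perm, Nat.card_eq_fintype_card (α := Ω), hn, ← hG, mul_comm 2] at this
    exact Nat.eq_of_mul_eq_mul_left Nat.card_pos this
  exact ⟨((MonoidHom.ofInjective (f := toPermHom G Ω) toPerm_injective).trans
    (MulEquiv.subgroupCongr h1)).trans e.altCongrHom⟩

theorem odd_core : Odd (Nat.card (pPrimeCore 2 G)) := by
  have := odd_Oo (⊤ : Subgroup G)
  rwa [show Oo (⊤ : Subgroup G) = pPrimeCore 2 G from pPrimeCoreIn_top 2] at this

theorem zs_top {z : G} (hz : orderOf z = 2) (h : IsIsolated z) : Cen1 z ⊔ oddCore G = ⊤ := by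
  refine eq_top_iff.2 fun g _ => ?_
  have h1 := L.zstar' hz h g
  rw [iinv hz] at h1
  obtain ⟨o, ho, e⟩ := conj_of_odd hz (iconj hz g) (odd_ord odd_core h1)
  have : o⁻¹ * g ∈ Cen1 z := c1'.2 (by
    rw [mul_inv_rev, inv_inv, mul_assoc o⁻¹, mul_assoc o⁻¹, ← mul_assoc _ g⁻¹, ← e]; group)
  simpa using mul_mem (mem_sup_right (zpowers_le.2 h1 ho)) (mem_sup_left this)

theorem no_RG (h : TT (⊤ : Subgroup G) (univ : Finset Ω)) (h0 : ∀ N : Subgroup G, ¬ RG Ω N) :
    pPrimeCore 2 G = ⊥ := by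
  by_contra e
  obtain ⟨N, -, hN⟩ := ex_RG h inferInstance (odd_solv odd_core) e
  exact h0 N hN

namespace Cf

variable {m d : ℕ} {a b : Ω} {τ σ : G} (h : Cf m d a b τ σ)
include h

section Y

variable {w : G} (w1 : w • a = b) (w2 : w * w = τ) (w3 : w * σ * w⁻¹ = τ * σ)
  (h1 : OneCl (⊤ : Subgroup G))
include w1 w2 w3 h1

theorem Y_cases : (Dl Ω τ).card = 2 ∨ (Dl Ω τ).card = 4 ∨ ((Dl Ω τ).card % 2 = 1 ∧
    ((pPrimeCore 2 G = ⊥ → IsA7 G) ∨ (DD G Ω).card ∈ ({12, 21, 45, 60} : Finset ℕ) ∨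
      12 * (Dl Ω τ).card ^ 2 < (DD G Ω).card)) := by
  have ij := h.Y_ij w1 w2 w3
  rcases Nat.mod_two_eq_zero_or_one (Ph Ω τ σ).card with ho | ho
  · rw [h.Y_even w1 w2 w3 ho] at ij
    exact ij.imp_right Or.inl
  have hi : (Dl Ω τ).card % 2 = 1 := h.par_i.trans ho
  refine Or.inr (Or.inr ⟨hi, (gwn (h.Y_D2 w1 w2 w3 h1 hi) h1 h.f4).imp And.right ?_⟩)
  rintro ⟨c, k, q, s, e1, e2, e3, e4⟩
  have e5 := h.Y_B w1 w2 w3
  rw [← h.idx, e3]
  rw [e2] at e5
  obtain ⟨j, hj⟩ : ∃ j, (Ph Ω τ σ).card = j + 2 := ⟨(Ph Ω τ σ).card - 2, by have := h.j2; omega⟩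
  rcases ij with e | e <;> rw [e, hj] at e5 ⊢
  · have e6 : c * k = 2 := Nat.eq_of_mul_eq_mul_right (show 0 < (j + 2) * (j + 1) by positivity) e5
    left
    rcases (Nat.dvd_prime Nat.prime_two).1 ⟨k, e6.symm⟩ with rfl | rfl
    · rw [show k = 2 by omega] at e4
      rcases e4 with ⟨rfl, rfl⟩ | ⟨e7, e8⟩
      · simp
      · rw [show q = 7 by omega, show s = 3 by omega]; simp
    · rw [show k = 1 by omega] at e4
      rcases e4 with ⟨rfl, rfl⟩ | ⟨e7, e8⟩
      · simp
      · rw [show q = 3 by omega, show s = 1 by omega]; simp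
  · right
    rw [show (j + 2) ^ 2 - 1 = (j + 3) * (j + 1) from Nat.sub_eq_of_eq_add (by ring)] at e5
    have e6 : c * k = 2 * ((j + 2) * (j + 3)) := Nat.eq_of_mul_eq_mul_right
      (show 0 < (j + 2) * (j + 1) by positivity) (e5.trans (by ring))
    refine lt_of_lt_of_le ?_ (numA e1 (by rw [e6]; positivity) e4)
    rw [e6]
    have : (j + 2) ^ 2 < (j + 2) * (j + 3) := by nlinarith
    nlinarith

theorem Y3 (hm : m = 3) (hd : ((DD G Ω).filter fun e => e • a = b).card = 6) :
    (Fintype.card Ω = 6 ∧ Nonempty (G ≃* alternatingGroup (Fin 6))) ∨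
      (Fintype.card Ω = 15 ∧ Nonempty (G ≃* alternatingGroup (Fin 7))) := by
  have e1 := h.N1
  have e2 := h.cD
  have e3 := h.cG
  have e4 := h.i_lt
  obtain ⟨i, hi⟩ : ∃ i, (Dl Ω τ).card = i + 2 := ⟨(Dl Ω τ).card - 2, by
    have := h.j2; have := h.ji; omega⟩
  rw [hd, hm, hi, show i + 2 - 1 = i + 1 from rfl] at e1
  have hn : Fintype.card Ω = (i + 2) * (2 * i + 3) := by
    have := Nat.sub_add_cancel (hi ▸ e4.le)
    nlinarith
  rw [hn, hm, show (i + 2) * (2 * i + 3) - 1 = (2 * i + 5) * (i + 1) from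
    Nat.sub_eq_of_eq_add (by ring)] at e2 e3
  rw [hi, show i + 2 - 1 = i + 1 from rfl] at e2
  have e5 : (DD G Ω).card = 3 * ((2 * i + 3) * (2 * i + 5)) := Nat.eq_of_mul_eq_mul_right
    (show 0 < (i + 2) * (i + 1) by positivity) (e2.trans (by ring))
  rcases h.Y_cases w1 w2 w3 h1 with e | e | ⟨e, e' | e' | e'⟩
  · obtain rfl : i = 0 := by omega
    exact Or.inl ⟨hn, iso_alt hn (by rw [e3]; rfl)⟩
  · obtain rfl : i = 2 := by omega
    refine (no28 h.tt a hn e3 fun t ht => ?_).elim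
    obtain ⟨g, -, rfl⟩ := h1 τ trivial t trivial h.f4.ht ht
    rw [← conj_c1, card_map_conj, h.cC, e]
  · have h7 := e' (no_RG h.tt fun N hN => by
      obtain ⟨p, p1, p2⟩ := Nat.exists_prime_and_dvd (show i + 2 ≠ 1 by omega)
      obtain ⟨q, q1, q2⟩ := Nat.exists_prime_and_dvd (show 2 * i + 3 ≠ 1 by omega)
      obtain rfl := hN.prime h.tt a p1 q1 (hn ▸ p2.mul_right _) (hn ▸ q2.mul_left _)
      exact p1.one_lt.ne' (Nat.dvd_one.1 ((Nat.dvd_add_right q2).1 (p2.mul_left 2))))
    refine Or.inr ⟨?_, h7⟩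
    obtain ⟨f⟩ := h7
    rw [Nat.card_congr f.toEquiv, card_A7] at e3
    rw [hn]
    rcases i with _ | _ | i
    · omega
    · rfl
    · exfalso
      have : 4 * 7 * (9 * 3) ≤ (i + 1 + 1 + 2) * (2 * (i + 1 + 1) + 3) *
          ((2 * (i + 1 + 1) + 5) * (i + 1 + 1 + 1)) := by gcongr <;> omega
      omega
  · exfalso
    rw [e5] at e'
    simp only [mem_insert, mem_singleton] at e'
    rcases i with _ | i
    · omega
    · have : 5 * 7 ≤ (2 * (i + 1) + 3) * (2 * (i + 1) + 5) := by gcongr <;> omega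
      omega
  · rw [e5, hi] at e'
    nlinarith

theorem Y15 (hm : m = 15) (hd : ((DD G Ω).filter fun e => e • a = b).card = 10)
    (h0 : ∀ N : Subgroup G, ¬ RG Ω N) (hs : IsSimpleGroup (St G a b)) :
    (Fintype.card Ω = 7 ∧ Nonempty (G ≃* alternatingGroup (Fin 7))) ∨
      (Fintype.card Ω = 12 ∧ IsSimpleGroup G ∧ Nat.card G = 7920) := by
  have e1 := h.N1
  have e2 := h.cD
  have e3 := h.cG
  obtain ⟨n, hn⟩ := Nat.exists_eq_add_of_lt h.i_lt
  obtain ⟨i, hi⟩ : ∃ i, (Dl Ω τ).card = i + 2 := ⟨(Dl Ω τ).card - 2, by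
    have := h.j2; have := h.ji; omega⟩
  rw [hi] at hn
  rw [hd, hm, hi, hn, show i + 2 - 1 = i + 1 from rfl,
    show i + 2 + n + 1 - (i + 2) = n + 1 by omega] at e1
  rw [hn, hm, Nat.add_sub_cancel] at e2 e3
  rw [hi, show i + 2 - 1 = i + 1 from rfl] at e2
  have f1 : 3 * (i + 2 + n + 1) = (i + 2) * (2 * i + 5) := by nlinarith
  have f2 : 3 * (i + 2 + n) = (2 * i + 7) * (i + 1) := by nlinarith
  have e5 : 3 * (DD G Ω).card = 5 * ((2 * i + 5) * (2 * i + 7)) := Nat.eq_of_mul_eq_mul_right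
    (show 0 < 3 * ((i + 2) * (i + 1)) by positivity) (by
      calc _ = 9 * ((DD G Ω).card * ((i + 2) * (i + 1))) := by ring
        _ = 15 * ((3 * (i + 2 + n + 1)) * (3 * (i + 2 + n))) := by rw [e2]; ring
        _ = _ := by rw [f1, f2]; ring)
  rcases h.Y_cases w1 w2 w3 h1 with e | e | ⟨e, e' | e' | e'⟩
  · obtain rfl : i = 0 := by omega
    omega
  · obtain rfl : i = 2 := by omega
    obtain rfl : n = 7 := by omega
    refine Or.inr ⟨hn, ?_, e3⟩
    haveI : Nontrivial G := ⟨τ, 1, ine h.f4.ht⟩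
    refine ⟨fun N hN => (em _).imp_right fun N0 => ?_⟩
    have c1 := n_dvd h.tt hN N0 a
    obtain ⟨t, ht, ot⟩ := ex_inv (K := N) (by rw [c1, hn, Nat.odd_iff]; omega)
    have all : ∀ s, orderOf s = 2 → s ∈ N := fun s hs => by
      obtain ⟨g, -, rfl⟩ := h1 t trivial s trivial ot hs
      exact hN.conj_mem t ht g
    have k : St G a b ≤ N ⊓ stabilizer G a := le_inf (subgroupOf_eq_top.1
      ((hN.subgroupOf (St G a b)).eq_bot_or_eq_top.resolve_left fun e => ine h.f4.ht
        (disjoint_def.1 (subgroupOf_eq_bot.1 e) (all τ h.f4.ht) h.tK))) inf_le_left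
    obtain ⟨r, hr⟩ := card_dvd_of_le k
    have c2 := card_dvd_of_le (inf_le_right : N ⊓ stabilizer G a ≤ _)
    rw [h.K.card, hm] at hr
    rw [h.cGa, hn, hm, hr] at c2
    rcases (Nat.dvd_prime (by norm_num : Nat.Prime 11)).1 (Nat.dvd_of_mul_dvd_mul_left
      (show 0 < 4 * 15 by norm_num) (show _ ∣ 4 * 15 * 11 from c2)) with rfl | rfl
    · exfalso
      obtain ⟨x, hx⟩ := ex_move (Ω := Ω) (ine h.f4.ht)
      obtain ⟨g, g1, g2⟩ := h.two (show a ≠ x from fun e => hx (e ▸ h.tK.1)) h.ne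
      have := (eq_of_le_of_card_ge k (by rw [hr, h.K.card, hm])).ge (x := g * τ * g⁻¹)
        ⟨all _ (iconj h.f4.ht g), mem_stabilizer_iff.2 (by
          rw [mul_smul, mul_smul, inv_smul_eq_iff.2 g1.symm, h.tK.1, g1])⟩
      have := (mem_St.1 this).2
      rw [← g2] at this
      exact hx (by simpa [mul_smul] using this)
    · exact eq_top_of_card_eq _ (by rw [c1, hn, hr, e3])
  · have h7 := e' (no_RG h.tt h0)
    refine Or.inl ⟨?_, h7⟩
    obtain ⟨f⟩ := h7
    rw [Nat.card_congr f.toEquiv, card_A7] at e3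
    rw [hn]
    generalize i + 2 + n = k at e3
    have : k < 7 := by nlinarith
    interval_cases k <;> omega
  · exfalso
    simp only [mem_insert, mem_singleton] at e'
    rcases i with _ | i
    · omega
    · have : 7 * 9 ≤ (2 * (i + 1) + 5) * (2 * (i + 1) + 7) := by gcongr <;> omega
      omega
  · rw [hi] at e' e
    have : 1 ≤ i := by omega
    nlinarith

end Y

end Cf

end T2
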