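import Cfsg.Agent.GW.Cv3

/-! Facts on `A₄` and `A₅` and their involutory automorphisms. -/

set_option autoImplicit false
set_option linter.unusedVariables false
set_option linter.unusedSectionVars false
set_option linter.style.haveILetI false

namespace T2

open Cfsg Subgroup FT H4 H5 GW Equiv

/-- the facts on `A₄` (`m = 3`, `d = 6`) and `A₅` (`m = 15`, `d = 10`) that are used -/
structure AF (A : Type*) [Group A] (m d : ℕ) : Prop where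
  card : Nat.card A = 4 * m
  cen : ∀ t : A, orderOf t = 2 → ∃ a, F4 t a ∧ Cen1 t = V4 t a
  one : OneCl (⊤ : Subgroup A)
  ex : ∃ t : A, orderOf t = 2
  zc : ∀ z : A, (∀ x, z * x = x * z) → z = 1
  aut : ∀ α : A ≃* A, (∀ x, α (α x) = x) → (∃ k, ∀ x, α x = k * x * k⁻¹) ∨
    (Nat.card {k // α k * k = 1} = d ∧ (∀ k, α k * k = 1 → ∃ l, k = α l * l⁻¹) ∧
      ∀ t, orderOf t = 2 → ∃ k σ, α k * k = t ∧ σ * t = t * σ ∧ α (k * σ * k⁻¹) ≠ σ)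

theorem af_of {n m d r : ℕ} {x y : alternatingGroup (Fin n)}
    (h0 : Nat.card (alternatingGroup (Fin n)) = 4 * m)
    (h1 : ∀ t : Perm (Fin n), t * t = 1 → t ≠ 1 → t.sign = 1 → ∃ a : Perm (Fin n), a * a = 1 ∧ a ≠ 1 ∧
      t * a = a * t ∧ a ≠ t ∧ a.sign = 1 ∧
      ∀ c : Perm (Fin n), c * t = t * c → c.sign = 1 → c = 1 ∨ c = t ∨ c = a ∨ c = t * a)
    (h2 : ∀ t : Perm (Fin n), t * t = 1 → t ≠ 1 → t.sign = 1 →
      ∃ g : Perm (Fin n), g * y * g⁻¹ = t ∧ g.sign = 1)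
    (h3 : x ^ 3 = 1 ∧ x ≠ 1 ∧ y * y = 1 ∧ y ≠ 1 ∧ (x * y) ^ r = 1)
    (h4 : ∀ z : Perm (Fin n), z * x = x * z → z * y = y * z → z = 1)
    (h5 : ∀ x' : Perm (Fin n), x' ^ 3 = 1 → x' ≠ 1 → ∀ y' : Perm (Fin n), y' * y' = 1 → y' ≠ 1 →
      (x' * y') ^ r = 1 → ∃ s : Perm (Fin n), s * x * s⁻¹ = x' ∧ s * y * s⁻¹ = y')
    (h6 : ∀ S : Subgroup (alternatingGroup (Fin n)), x ∈ S → y ∈ S → S = ⊤)
    (h7 : ∀ s : Perm (Fin n), s * s = 1 → s.sign ≠ 1 →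
      (Finset.univ.filter fun k : Perm (Fin n) => s * k * s⁻¹ * k = 1 ∧ k.sign = 1).card = d ∧
      (∀ k : Perm (Fin n), s * k * s⁻¹ * k = 1 → k.sign = 1 →
        ∃ l : Perm (Fin n), k = s * l * s⁻¹ * l⁻¹ ∧ l.sign = 1) ∧
      ∀ t : Perm (Fin n), t * t = 1 → t ≠ 1 → t.sign = 1 → ∃ k : Perm (Fin n), s * k * s⁻¹ * k = t ∧
        k.sign = 1 ∧ ∃ σ : Perm (Fin n), σ * t = t * σ ∧ s * (k * σ * k⁻¹) * s⁻¹ ≠ σ ∧ σ.sign = 1) :
    AF (alternatingGroup (Fin n)) m d := by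
  have o : ∀ {t : alternatingGroup (Fin n)}, orderOf t = 2 → t.1 * t.1 = 1 ∧ t.1 ≠ 1 := fun ht =>
    ⟨congrArg Subtype.val (ii ht), fun e => ine ht (Subtype.ext e)⟩
  have oy : orderOf y = 2 := orderOf_eq_two' h3.2.2.1 h3.2.2.2.1
  refine ⟨h0, fun t ht => ?_, fun a _ b _ ha hb => ?_, ⟨y, oy⟩, fun z hz => Subtype.ext
    (h4 z.1 (congrArg Subtype.val (hz x)) (congrArg Subtype.val (hz y))), fun α hα => ?_⟩
  · obtain ⟨a, a1, a2, a3, a4, a5, a6⟩ := h1 t.1 (o ht).1 (o ht).2 t.2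
    have f : F4 t ⟨a, a5⟩ := ⟨ht, orderOf_eq_two' (Subtype.ext a1)
      (fun e => a2 (congrArg Subtype.val e)), Subtype.ext a3, fun e => a4 (congrArg Subtype.val e)⟩
    refine ⟨_, f, le_antisymm (fun c hc => f.mem_V.2 ?_) (V_le (c1.2 rfl) f.aH)⟩
    simp only [Subtype.ext_iff]
    exact a6 c.1 (congrArg Subtype.val (c1.1 hc)) c.2
  · obtain ⟨g, g1, g2⟩ := h2 a.1 (o ha).1 (o ha).2 a.2
    obtain ⟨k, k1, k2⟩ := h2 b.1 (o hb).1 (o hb).2 b.2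
    refine ⟨⟨k, k2⟩ * ⟨g, g2⟩⁻¹, trivial, Subtype.ext ?_⟩
    change k * g⁻¹ * a.1 * (k * g⁻¹)⁻¹ = b.1
    rw [← g1, ← k1]; group
  obtain ⟨s, s1, s2⟩ := h5 (α x).1 (by rw [← coe_pow, ← map_pow, h3.1, map_one]; rfl)
    (fun e => h3.2.1 ((map_eq_one_iff α α.injective).1 (Subtype.ext e))) (α y).1
    (by rw [← coe_mul, ← map_mul, h3.2.2.1, map_one]; rfl)
    (fun e => h3.2.2.2.1 ((map_eq_one_iff α α.injective).1 (Subtype.ext e)))
    (by rw [← coe_mul, ← map_mul, ← coe_pow, ← map_pow, h3.2.2.2.2, map_one]; rfl)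
  have hs : ∀ g, (α g).1 = s * g.1 * s⁻¹ := fun g => by
    have := h6 (MonoidHom.eqLocus ((alternatingGroup (Fin n)).subtype.comp α.toMonoidHom)
      ((MulAut.conj s).toMonoidHom.comp (alternatingGroup (Fin n)).subtype)) s1.symm s2.symm
    exact (this.ge (mem_top g) :)
  by_cases e : s.sign = 1
  · exact Or.inl ⟨⟨s, e⟩, fun g => Subtype.ext (hs g)⟩
  have k : ∀ g : alternatingGroup (Fin n), s * s * g.1 = g.1 * (s * s) := fun g => by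
    have := congrArg Subtype.val (hα g)
    rw [hs, hs] at this
    rw [← mul_inv_eq_iff_eq_mul]
    refine Eq.trans ?_ this
    simp only [mul_inv_rev, mul_assoc]
  obtain ⟨y1, y2, y3⟩ := h7 s (h4 _ (k x) (k y)) e
  refine Or.inr ⟨?_, fun k hk => ?_, fun t ht => ?_⟩
  · rw [← y1, ← Fintype.card_subtype, ← Nat.card_eq_fintype_card]
    refine Nat.card_congr ⟨fun k => ⟨k.1.1, ?_, k.1.2⟩, fun k => ⟨⟨k.1, k.2.2⟩, Subtype.ext ?_⟩,
      fun _ => rfl, fun _ => rfl⟩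
    · rw [← hs]; exact congrArg Subtype.val k.2
    · rw [coe_mul, hs]; exact k.2.1
  · obtain ⟨l, l1, l2⟩ := y2 k.1 (by rw [← hs]; exact congrArg Subtype.val hk) k.2
    exact ⟨⟨l, l2⟩, Subtype.ext (by rw [coe_mul, hs]; exact l1)⟩
  · obtain ⟨k, k1, k2, σ, σ1, σ2, σ3⟩ := y3 t.1 (o ht).1 (o ht).2 t.2
    exact ⟨⟨k, k2⟩, ⟨σ, σ3⟩, Subtype.ext (by rw [coe_mul, hs]; exact k1), Subtype.ext σ1,
      fun e => σ2 (by have := congrArg Subtype.val e; rwa [hs] at this)⟩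

end T2
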