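import Cfsg.Agent.GW.L4
import Cfsg.Agent.H2.Chain

/-! Doubly transitive groups: counting lemmas. -/

set_option autoImplicit false
set_option linter.unusedVariables false
set_option linter.unusedSectionVars false
set_option linter.style.haveILetI false

namespace T2

open Cfsg Subgroup FT H4 H5 GW MulAction Finset
open scoped Classical

theorem even_card_of_invol {α : Type*} (s : Finset α) (f : α → α) (h1 : ∀ x ∈ s, f x ∈ s)
    (h2 : ∀ x ∈ s, f (f x) = x) (h3 : ∀ x ∈ s, f x ≠ x) : Even s.card := by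
  have := Finset.sum_involution (s := s) (f := fun _ => (1 : ZMod 2)) (fun x _ => f x)
    (fun _ _ => rfl) (fun x hx _ => h3 x hx) h1 h2
  rw [Finset.sum_const, nsmul_eq_mul, mul_one] at this
  exact (ZMod.natCast_eq_zero_iff_even).1 this

theorem dvd_card_of_equiv {α : Type*} (s : Finset α) (r : α → α → Prop) (R : ℕ)
    (h1 : ∀ x ∈ s, r x x) (h2 : ∀ x ∈ s, ∀ y ∈ s, r x y → r y x)
    (h3 : ∀ x ∈ s, ∀ y ∈ s, ∀ z ∈ s, r x y → r y z → r x z)
    (h : ∀ x ∈ s, (s.filter (r x)).card = R) : R ∣ s.card := by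
  rw [Finset.card_eq_sum_card_image (fun x => s.filter (r x)) s]
  refine Finset.dvd_sum fun c hc => ?_
  obtain ⟨x, hx, rfl⟩ := Finset.mem_image.1 hc
  rw [← h x hx]
  refine dvd_of_eq (congrArg Finset.card ?_)
  ext y
  simp only [Finset.mem_filter]
  refine and_congr_right fun hy => ⟨fun e => ?_, fun e => ?_⟩
  · ext z
    simp only [Finset.mem_filter]
    exact and_congr_right fun hz => ⟨fun e' => h3 x hx y hy z hz e e',
      fun e' => h3 y hy x hx z hz (h2 x hx y hy e) e'⟩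
  · have : y ∈ s.filter (r y) := Finset.mem_filter.2 ⟨hy, h1 y hy⟩
    rw [e] at this
    exact (Finset.mem_filter.1 this).2

variable {G : Type*} [Group G] [Fintype G] {Ω : Type*} [MulAction G Ω]

/-- the stabiliser of two points -/
def St (G : Type*) [Group G] {Ω : Type*} [MulAction G Ω] (x y : Ω) : Subgroup G :=
  stabilizer G x ⊓ stabilizer G y

theorem mem_St {x y : Ω} {g : G} : g ∈ St G x y ↔ g • x = x ∧ g • y = y := Iff.rfl

/-- the fixed points of `g` in `X` -/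
noncomputable def Fx (X : Finset Ω) (g : G) : Finset Ω := X.filter fun x => g • x = x

theorem mem_Fx {X : Finset Ω} {g : G} {x : Ω} : x ∈ Fx X g ↔ x ∈ X ∧ g • x = x := Finset.mem_filter

theorem Fx_sub (X : Finset Ω) (g : G) : Fx X g ⊆ X := Finset.filter_subset _ _

/-- `M` is doubly transitive on `X` -/
structure TT (M : Subgroup G) (X : Finset Ω) : Prop where
  mem : ∀ g ∈ M, ∀ x ∈ X, g • x ∈ X
  two : ∀ x ∈ X, ∀ y ∈ X, ∀ x' ∈ X, ∀ y' ∈ X, x ≠ y → x' ≠ y' → ∃ g ∈ M, g • x = x' ∧ g • y = y'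

theorem card_sub (M : Subgroup G) : Nat.card M = (univ.filter (· ∈ M)).card := by
  rw [Nat.card_eq_fintype_card, Fintype.card_subtype]

theorem card_Fx_conj {X : Finset Ω} {c : G} (h1 : ∀ x ∈ X, c • x ∈ X) (h2 : ∀ x ∈ X, c⁻¹ • x ∈ X)
    (g : G) : (Fx X (c * g * c⁻¹)).card = (Fx X g).card := by
  refine Finset.card_bij' (fun x _ => c⁻¹ • x) (fun x _ => c • x) (fun x hx => ?_) (fun x hx => ?_)
    (fun x _ => smul_inv_smul c x) (fun x _ => inv_smul_smul c x)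
  · obtain ⟨a, b⟩ := mem_Fx.1 hx
    refine mem_Fx.2 ⟨h2 x a, ?_⟩
    rw [mul_smul, mul_smul] at b
    rw [eq_inv_smul_iff, b]
  · obtain ⟨a, b⟩ := mem_Fx.1 hx
    exact mem_Fx.2 ⟨h1 x a, by rw [mul_smul, inv_smul_smul, mul_smul, b]⟩

theorem parity {X : Finset Ω} {g : G} (h1 : ∀ x ∈ X, g • x ∈ X) (h2 : ∀ x ∈ X, g • g • x = x) :
    X.card % 2 = (Fx X g).card % 2 := by
  have e := Finset.card_filter_add_card_filter_not (s := X) (fun x => g • x = x)
  obtain ⟨k, hk⟩ := even_card_of_invol (X.filter fun x => ¬ g • x = x) (g • ·) (fun x hx => by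
    obtain ⟨a, b⟩ := Finset.mem_filter.1 hx
    exact Finset.mem_filter.2 ⟨h1 x a, fun e => b (smul_left_cancel g e)⟩)
    (fun x hx => h2 x (Finset.mem_filter.1 hx).1) (fun x hx => (Finset.mem_filter.1 hx).2)
  rw [Fx]; omega

namespace TT

variable {M : Subgroup G} {X : Finset Ω} (h : TT M X)
include h

theorem one {x y : Ω} (hx : x ∈ X) (hy : y ∈ X) : ∃ g ∈ M, g • x = y := by
  by_cases e : x = y
  · exact ⟨1, one_mem _, by rw [one_smul, e]⟩
  · obtain ⟨g, hg, e, -⟩ := h.two x hx y hy y hy x hx e (Ne.symm e)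
    exact ⟨g, hg, e⟩

theorem card1 {x : Ω} (hx : x ∈ X) : Nat.card M = X.card * Nat.card ↥(M ⊓ stabilizer G x) := by
  rw [H2.card_eq_orbit_mul M x X fun y => ⟨fun hy => h.one hx hy, by
    rintro ⟨g, hg, rfl⟩; exact h.mem g hg x hx⟩, Set.ncard_coe_finset]

theorem card2 {x y : Ω} (hx : x ∈ X) (hy : y ∈ X) (ne : x ≠ y) :
    Nat.card ↥(M ⊓ stabilizer G x) = (X.card - 1) * Nat.card ↥(M ⊓ St G x y) := by
  rw [H2.card_eq_orbit_mul (M ⊓ stabilizer G x) y (X.erase x) fun z => ⟨fun hz => ?_, ?_⟩,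
    Set.ncard_coe_finset, Finset.card_erase_of_mem hx, inf_assoc]
  · rfl
  · obtain ⟨a, b⟩ := Finset.mem_erase.1 hz
    obtain ⟨g, hg, e1, e2⟩ := h.two x hx y hy x hx z b ne a.symm
    exact ⟨g, ⟨hg, e1⟩, e2⟩
  · rintro ⟨g, ⟨hg, e⟩, rfl⟩
    refine Finset.mem_coe.2 (Finset.mem_erase.2 ⟨fun e' => ne ?_, h.mem g hg y hy⟩)
    exact smul_left_cancel g ((mem_stabilizer_iff.1 e).trans e'.symm)

theorem card3 {x y : Ω} (hx : x ∈ X) (hy : y ∈ X) (ne : x ≠ y) :
    Nat.card M = X.card * (X.card - 1) * Nat.card ↥(M ⊓ St G x y) := by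
  rw [h.card1 hx, h.card2 hx hy ne, mul_assoc]

theorem conj_card {E : Finset G} (hE : ∀ e ∈ E, ∀ g ∈ M, g * e * g⁻¹ ∈ E) {g : G} (hg : g ∈ M)
    (p q : G → Prop) (hp : ∀ e, p e ↔ q (g * e * g⁻¹)) :
    (E.filter p).card = (E.filter q).card := by
  refine Finset.card_bij' (fun e _ => g * e * g⁻¹) (fun e _ => g⁻¹ * e * g⁻¹⁻¹) (fun e he => ?_)
    (fun e he => ?_) (fun e _ => by group) (fun e _ => by group)
  · obtain ⟨a, b⟩ := Finset.mem_filter.1 he
    exact Finset.mem_filter.2 ⟨hE e a g hg, (hp e).1 b⟩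
  · obtain ⟨a, b⟩ := Finset.mem_filter.1 he
    exact Finset.mem_filter.2 ⟨hE e a _ (inv_mem hg), (hp _).2 (by simpa [mul_assoc] using b)⟩

theorem cnt1 {E : Finset G} (hE : ∀ e ∈ E, ∀ g ∈ M, g * e * g⁻¹ ∈ E) {f : ℕ}
    (hf : ∀ e ∈ E, (Fx X e).card = f) {a : Ω} (ha : a ∈ X) :
    E.card * f = X.card * (E.filter fun e => e • a = a).card := by
  refine Finset.card_mul_eq_card_mul (fun e x => e • x = x) hf fun x hx => ?_
  obtain ⟨g, hg, rfl⟩ := h.one ha hx
  exact (h.conj_card hE hg _ _ fun e => by simp [mul_smul]).symm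

theorem cnt2 {E : Finset G} (hE : ∀ e ∈ E, ∀ g ∈ M, g * e * g⁻¹ ∈ E) (r : G → Ω → Ω → Prop)
    (hr : ∀ e g x y, r e x y ↔ r (g * e * g⁻¹) (g • x) (g • y)) {f : ℕ}
    (hf : ∀ e ∈ E, (X.offDiag.filter fun p => r e p.1 p.2).card = f) {a b : Ω} (ha : a ∈ X)
    (hb : b ∈ X) (ne : a ≠ b) :
    E.card * f = X.card * (X.card - 1) * (E.filter fun e => r e a b).card := by
  have := Finset.card_mul_eq_card_mul (s := E) (t := X.offDiag) (fun e (p : Ω × Ω) => r e p.1 p.2) hf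
    (n := (E.filter fun e => r e a b).card) fun p hp => by
      obtain ⟨h1, h2, h3⟩ := Finset.mem_offDiag.1 hp
      obtain ⟨g, hg, e1, e2⟩ := h.two a ha b hb _ h1 _ h2 ne h3
      exact (h.conj_card hE hg _ _ fun e => by
        change _ ↔ r _ p.1 p.2
        rw [← e1, ← e2]; exact hr e g a b).symm
  rw [this, Finset.offDiag_card, Nat.mul_sub_one]

theorem cnt_fix {E : Finset G} (hE : ∀ e ∈ E, ∀ g ∈ M, g * e * g⁻¹ ∈ E) {f : ℕ}
    (hf : ∀ e ∈ E, (Fx X e).card = f) {a b : Ω} (ha : a ∈ X) (hb : b ∈ X) (ne : a ≠ b) :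
    E.card * (f * (f - 1)) = X.card * (X.card - 1) * (E.filter (· ∈ St G a b)).card := by
  refine h.cnt2 hE (fun e x y => e ∈ St G x y) (fun e g x y => by simp [mem_St, mul_smul])
    (fun e he => ?_) ha hb ne
  rw [Nat.mul_sub_one, ← hf e he, ← Finset.offDiag_card]
  congr 1
  ext p
  simp only [Finset.mem_filter, Finset.mem_offDiag, mem_Fx, mem_St]
  tauto

theorem cnt_move {E : Finset G} (hM : ∀ e ∈ E, e ∈ M) (hE : ∀ e ∈ E, ∀ g ∈ M, g * e * g⁻¹ ∈ E)
    {f : ℕ} (hf : ∀ e ∈ E, (Fx X e).card = f) {a b : Ω} (ha : a ∈ X) (hb : b ∈ X) (ne : a ≠ b) :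
    E.card * (X.card - f) = X.card * (X.card - 1) * (E.filter fun e => e • a = b).card := by
  refine h.cnt2 hE (fun e x y => e • x = y) (fun e g x y => by simp [mul_smul])
    (fun e he => ?_) ha hb ne
  rw [← hf e he, Fx, ← Finset.card_filter_add_card_filter_not (s := X) (fun x => e • x = x),
    Nat.add_sub_cancel_left]
  refine Finset.card_bij' (fun p _ => p.1) (fun x _ => (x, e • x)) (fun p hp => ?_) (fun x hx => ?_)
    (fun p hp => ?_) (fun x _ => rfl)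
  · obtain ⟨h1, h2⟩ := Finset.mem_filter.1 hp
    obtain ⟨h3, h4, h5⟩ := Finset.mem_offDiag.1 h1
    exact Finset.mem_filter.2 ⟨h3, fun e' => h5 (e'.symm.trans h2)⟩
  · obtain ⟨h1, h2⟩ := Finset.mem_filter.1 hx
    exact Finset.mem_filter.2 ⟨Finset.mem_offDiag.2 ⟨h1, h.mem e (hM e he) x h1, Ne.symm h2⟩, rfl⟩
  · exact Prod.ext rfl (Finset.mem_filter.1 hp).2

end TT

/-- `g` acts trivially on `X` -/
def Tr (X : Finset Ω) (g : G) : Prop := ∀ x ∈ X, g • x = x

theorem Tr.mul {X : Finset Ω} {g k : G} (h1 : Tr X g) (h2 : Tr X k) : Tr X (g * k) :=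
  fun x hx => by rw [mul_smul, h2 x hx, h1 x hx]

theorem Tr.inv {X : Finset Ω} {g : G} (h1 : Tr X g) : Tr X g⁻¹ :=
  fun x hx => by rw [inv_smul_eq_iff, h1 x hx]

theorem Tr.conj {X : Finset Ω} {g c : G} (h1 : Tr X g) (h2 : ∀ x ∈ X, c⁻¹ • x ∈ X) :
    Tr X (c * g * c⁻¹) := fun x hx => by rw [mul_smul, mul_smul, h1 _ (h2 x hx), smul_inv_smul]

theorem Tr.sq {X : Finset Ω} {g : G} (h1 : Tr X (g * g)) : ∀ x ∈ X, g • g • x = x :=
  fun x hx => by rw [← mul_smul, h1 x hx]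

/-- `M` is sharply doubly transitive on `X` modulo the kernel -/
structure Sh (M : Subgroup G) (X : Finset Ω) : Prop extends TT M X where
  sh : ∀ g ∈ M, ∀ x ∈ X, ∀ y ∈ X, x ≠ y → g • x = x → g • y = y → Tr X g

namespace Sh

variable {M : Subgroup G} {X : Finset Ω} (h : Sh M X)
include h

theorem le_one {g : G} (hg : g ∈ M) (h0 : ¬ Tr X g) : (Fx X g).card ≤ 1 :=
  Finset.card_le_one.2 fun x hx y hy => by
    by_contra e
    exact h0 (h.sh g hg x (mem_Fx.1 hx).1 y (mem_Fx.1 hy).1 e (mem_Fx.1 hx).2 (mem_Fx.1 hy).2)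

theorem fix_odd (ho : X.card % 2 = 1) {g : G} (hg : g ∈ M) (h2 : Tr X (g * g)) (h0 : ¬ Tr X g) :
    ∃ x ∈ X, g • x = x ∧ ∀ y ∈ X, g • y = y → y = x := by
  have h1 := parity (h.mem g hg) h2.sq
  have h3 := h.le_one hg h0
  obtain ⟨x, hx⟩ := Finset.card_eq_one.1 (show (Fx X g).card = 1 by omega)
  have := mem_Fx.1 (hx ▸ Finset.mem_singleton_self x)
  exact ⟨x, this.1, this.2, fun y hy e => Finset.mem_singleton.1 (hx ▸ mem_Fx.2 ⟨hy, e⟩)⟩

theorem fix_even (ho : X.card % 2 = 0) {g : G} (hg : g ∈ M) (h2 : Tr X (g * g)) (h0 : ¬ Tr X g) :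
    Fx X g = ∅ := by
  have h1 := parity (h.mem g hg) h2.sq
  have h3 := h.le_one hg h0
  exact Finset.card_eq_zero.1 (by omega)

/-- at most one involution in a point stabiliser -/
theorem uniq {g k : G} (hg : g ∈ M) (hk : k ∈ M) (g2 : Tr X (g * g)) (k2 : Tr X (k * k))
    (g0 : ¬ Tr X g) (k0 : ¬ Tr X k) {x : Ω} (hx : x ∈ X) (e1 : g • x = x) (e2 : k • x = x) :
    Tr X (g⁻¹ * k) := by
  obtain ⟨y, hy, ne⟩ : ∃ y ∈ X, g • y ≠ y := by simpa [Tr] using g0
  have yx : x ≠ y := fun e => ne (e ▸ e1)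
  have ne' : k • y ≠ y := fun e => k0 (h.sh k hk x hx y hy yx e2 e)
  obtain ⟨c, hc, f1, f2⟩ := h.two y hy _ (h.mem g hg y hy) y hy _ (h.mem k hk y hy) ne.symm ne'.symm
  have t1 : Tr X (k⁻¹ * (c * g * c⁻¹)) := by
    refine h.sh _ (mul_mem (inv_mem hk) (mul_mem (mul_mem hc hg) (inv_mem hc))) y hy _
      (h.mem k hk y hy) ne'.symm ?_ ?_
    · rw [mul_smul, inv_smul_eq_iff, mul_smul, mul_smul, inv_smul_eq_iff.2 f1.symm, f2]
    · rw [mul_smul, inv_smul_eq_iff, mul_smul, mul_smul, inv_smul_eq_iff.2 f2.symm, g2.sq y hy,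
        k2.sq y hy, f1]
  have t2 : c • x = x := by
    by_contra e
    refine k0 (h.sh k hk x hx _ (h.mem c hc x hx) (Ne.symm e) e2 ?_)
    have := t1 _ (h.mem c hc x hx)
    rw [mul_smul, inv_smul_eq_iff, mul_smul, mul_smul, inv_smul_smul, e1] at this
    exact this.symm
  have t3 := h.sh c hc x hx y hy yx t2 f1
  refine h.sh _ (mul_mem (inv_mem hg) hk) x hx y hy yx ?_ ?_
  · rw [mul_smul, e2, inv_smul_eq_iff, e1]
  · rw [mul_smul, inv_smul_eq_iff, ← f2, t3 _ (h.mem g hg y hy)]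

theorem ker_eq {a b : Ω} (ha : a ∈ X) (hb : b ∈ X) (ne : a ≠ b) {g : G} (hg : g ∈ M) :
    Tr X g ↔ g ∈ St G a b := ⟨fun t => ⟨t a ha, t b hb⟩, fun t => h.sh g hg a ha b hb ne t.1 t.2⟩

/-- even degree: the fixed point free elements are involutions -/
theorem sq_of_fpf (ho : X.card % 2 = 0) {g : G} (hg : g ∈ M) (h0 : Fx X g = ∅) : Tr X (g * g) := by
  by_cases hX : X.card ≤ 1
  · intro x hx
    have := Finset.card_pos.2 ⟨x, hx⟩
    omega
  obtain ⟨a, ha, b, hb, ne⟩ := Finset.one_lt_card.1 (not_le.1 hX)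
  set U := univ.filter (· ∈ M) with hU
  have mU : ∀ {e}, e ∈ U ↔ e ∈ M := by simp [hU]
  set Q := U.filter fun e => Tr X (e * e) ∧ ¬ Tr X e with hQ
  set F := U.filter fun e => Fx X e = ∅ with hF
  set F1 := U.filter fun e => (Fx X e).card = 1 with hF1
  set z := Nat.card ↥(M ⊓ St G a b) with hz
  have cinv : ∀ {c}, c ∈ M → ∀ x ∈ X, c⁻¹ • x ∈ X := fun hc => h.mem _ (inv_mem hc)
  have trc : ∀ {e c}, c ∈ M → (Tr X (c * e * c⁻¹) ↔ Tr X e) := fun {e c} hc =>
    ⟨fun t => by simpa [mul_assoc] using t.conj (c := c⁻¹) (cinv (inv_mem hc)),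
      fun t => t.conj (cinv hc)⟩
  have QF : Q ⊆ F := fun e he => by
    obtain ⟨h1, h2, h3⟩ := Finset.mem_filter.1 he
    exact Finset.mem_filter.2 ⟨h1, h.fix_even ho (mU.1 h1) h2 h3⟩
  have c1 := h.toTT.cnt_move (E := Q) (f := 0) (fun e he => mU.1 (Finset.mem_filter.1 he).1)
    (fun e he c hc => by
      obtain ⟨h1, h2, h3⟩ := Finset.mem_filter.1 he
      refine Finset.mem_filter.2 ⟨mU.2 (mul_mem (mul_mem hc (mU.1 h1)) (inv_mem hc)), ?_,
        fun t => h3 ((trc hc).1 t)⟩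
      rw [conj_mul]; exact (trc hc).2 h2)
    (fun e he => Finset.card_eq_zero.2 (Finset.mem_filter.1 (QF he)).2) ha hb ne
  obtain ⟨u, hu, u1, u2⟩ := h.two a ha b hb b hb a ha ne ne.symm
  have c2 : z ≤ (Q.filter fun e => e • a = b).card := by
    rw [hz, card_sub]
    refine Finset.card_le_card_of_injOn (u * ·) (fun k hk => ?_) fun _ _ _ _ e => mul_left_cancel e
    obtain ⟨k1, k2, k3⟩ : k ∈ M ⊓ St G a b := by simpa using hk
    have k4 : (u * k) • a = b := by rw [mul_smul, k2, u1]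
    have k5 : (u * k) • b = a := by rw [mul_smul, k3, u2]
    refine Finset.mem_coe.2 (Finset.mem_filter.2 ⟨Finset.mem_filter.2 ⟨mU.2 (mul_mem hu k1),
      (h.ker_eq ha hb ne (mul_mem (mul_mem hu k1) (mul_mem hu k1))).2 (mem_St.2 ⟨?_, ?_⟩),
      fun t => ne ((t a ha).symm.trans k4)⟩, k4⟩)
    · rw [mul_smul, k4, k5]
    · rw [mul_smul, k5, k4]
  have c3 := h.toTT.cnt1 (E := F1) (f := 1) (fun e he c hc => by
      obtain ⟨h1, h2⟩ := Finset.mem_filter.1 he
      exact Finset.mem_filter.2 ⟨mU.2 (mul_mem (mul_mem hc (mU.1 h1)) (inv_mem hc)), by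
        rw [card_Fx_conj (h.mem c hc) (cinv hc), h2]⟩)
    (fun e he => (Finset.mem_filter.1 he).2) ha
  have c4 : Nat.card ↥(M ⊓ stabilizer G a) ≤ (F1.filter fun e => e • a = a).card + z := by
    rw [hz, card_sub, card_sub]
    refine le_trans (Finset.card_le_card fun e he => ?_) (Finset.card_union_le _ _)
    obtain ⟨k1, k2⟩ : e ∈ M ⊓ stabilizer G a := by simpa using he
    by_cases t : Tr X e
    · exact Finset.mem_union_right _ (by simpa using ⟨k1, t a ha, t b hb⟩)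
    · refine Finset.mem_union_left _ (Finset.mem_filter.2 ⟨Finset.mem_filter.2 ⟨mU.2 k1, ?_⟩, k2⟩)
      have := h.le_one k1 t
      have := Finset.card_pos.2 ⟨a, mem_Fx.2 ⟨ha, mem_stabilizer_iff.1 k2⟩⟩
      omega
  have c5 : F.card + F1.card + z ≤ Nat.card M := by
    rw [hz, card_sub, card_sub, ← Finset.card_union_of_disjoint, ← Finset.card_union_of_disjoint]
    · refine Finset.card_le_card fun e he => ?_
      simp only [Finset.mem_union, hF, hF1, Finset.mem_filter, mU, Subgroup.mem_inf] at he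
      simp only [Finset.mem_filter, Finset.mem_univ, true_and]
      tauto
    · refine Finset.disjoint_left.2 fun e he he' => ?_
      obtain ⟨k1, k2⟩ : e ∈ M ⊓ St G a b := by simpa using he'
      have : 1 < (Fx X e).card :=
        Finset.one_lt_card.2 ⟨a, mem_Fx.2 ⟨ha, k2.1⟩, b, mem_Fx.2 ⟨hb, k2.2⟩, ne⟩
      rcases Finset.mem_union.1 he with he | he
      · rw [(Finset.mem_filter.1 he).2] at this; simp at this
      · rw [(Finset.mem_filter.1 he).2] at this; omega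
    · refine Finset.disjoint_left.2 fun e he he' => ?_
      have := (Finset.mem_filter.1 he').2
      rw [(Finset.mem_filter.1 he).2] at this; simp at this
  rw [h.toTT.card2 ha hb ne, ← hz] at c4
  rw [h.toTT.card3 ha hb ne, ← hz] at c5
  have e : Q = F := by
    refine Finset.eq_of_subset_of_card_le QF ?_
    obtain ⟨n, hn⟩ : ∃ n, X.card = n + 2 := ⟨X.card - 2, by omega⟩
    rw [hn] at c1 c3 c4 c5
    simp only [Nat.sub_zero, Nat.add_succ_sub_one, mul_one] at c1 c3 c4 c5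
    have d1 : Q.card = (n + 1) * (Q.filter fun e => e • a = b).card :=
      Nat.eq_of_mul_eq_mul_left (show 0 < n + 2 by omega) (by rw [mul_comm, c1, mul_assoc])
    have d2 : (n + 1) * z ≤ Q.card := d1 ▸ Nat.mul_le_mul_left _ c2
    have d3 : (n + 2) * (n * z) ≤ F1.card := c3 ▸ Nat.mul_le_mul_left _ (by linarith)
    nlinarith
  have : g ∈ Q := e ▸ Finset.mem_filter.2 ⟨mU.2 hg, h0⟩
  exact (Finset.mem_filter.1 this).2.1

theorem sq_mul (ho : X.card % 2 = 0) {g k : G} (hg : g ∈ M) (hk : k ∈ M) (g2 : Tr X (g * g))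
    (k2 : Tr X (k * k)) : Tr X (g * k * (g * k)) := by
  by_cases h0 : Fx X (g * k) = ∅
  · exact h.sq_of_fpf ho (mul_mem hg hk) h0
  obtain ⟨x, hx⟩ := Finset.nonempty_iff_ne_empty.2 h0
  obtain ⟨hx, e⟩ := mem_Fx.1 hx
  by_cases t : Tr X k
  · have : g * k * (g * k) = g * g * (g⁻¹ * k * g⁻¹⁻¹) * k := by group
    rw [this]
    exact (g2.mul (t.conj (h.mem _ (inv_mem (inv_mem hg))))).mul t
  have ne : k • x ≠ x := fun e' => by
    have := mem_Fx.2 ⟨hx, e'⟩
    rw [h.fix_even ho hk k2 t] at this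
    simp at this
  have t1 : Tr X (g * k) := by
    refine h.sh _ (mul_mem hg hk) x hx _ (h.mem k hk x hx) ne.symm e ?_
    rw [mul_smul] at e
    rw [mul_smul, k2.sq x hx]
    nth_rewrite 1 [← e]
    exact g2.sq _ (h.mem k hk x hx)
  exact t1.mul t1

/-- even degree with a 2-group as kernel: the degree has no odd prime divisor -/
theorem not_dvd (ho : X.card % 2 = 0) {a b : Ω} (ha : a ∈ X) (hb : b ∈ X) (ne : a ≠ b)
    (h4 : Nat.card ↥(M ⊓ St G a b) = 4) {p : ℕ} (hp : p.Prime) (hd : p ∣ X.card) : p = 2 := by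
  haveI := Fact.mk hp
  by_contra p2
  have p4 : ¬ p ∣ 4 := fun e => p2 ((Nat.prime_dvd_prime_iff_eq hp Nat.prime_two).1
    (hp.dvd_of_dvd_pow (show p ∣ 2 ^ 2 from e)))
  obtain ⟨⟨g, hg⟩, og⟩ := exists_prime_orderOf_dvd_card' (G := M) p
    (by rw [h.toTT.card3 ha hb ne]; exact (hd.mul_right _).mul_right _)
  rw [← Subgroup.orderOf_coe] at og
  have h0 : Fx X g = ∅ := by
    refine Finset.eq_empty_of_forall_notMem fun x hx => ?_
    obtain ⟨hx, e⟩ := mem_Fx.1 hx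
    have h1 := Subgroup.orderOf_dvd_natCard (M ⊓ stabilizer G x) (x := g) ⟨hg, e⟩
    have h2 := (h.toTT.card1 hx).symm.trans (h.toTT.card1 ha)
    have h3 := Finset.card_pos.2 ⟨a, ha⟩
    rw [Nat.eq_of_mul_eq_mul_left h3 h2, h.toTT.card2 ha hb ne, h4, og] at h1
    rcases (Nat.Prime.dvd_mul hp).1 h1 with e | e
    · have := Nat.dvd_sub hd e
      rw [show X.card - (X.card - 1) = 1 by omega] at this
      exact hp.one_lt.ne' (Nat.dvd_one.1 this)
    · exact p4 e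
  have h1 := Subgroup.orderOf_dvd_natCard (M ⊓ St G a b) (x := g * g) ⟨mul_mem hg hg,
    (h.ker_eq ha hb ne (mul_mem hg hg)).1 (h.sq_of_fpf ho hg h0)⟩
  rw [h4, ← pow_two, orderOf_dvd_iff_pow_eq_one, ← pow_mul, ← orderOf_dvd_iff_pow_eq_one, og] at h1
  exact p2 ((Nat.prime_dvd_prime_iff_eq hp Nat.prime_two).1
    (hp.dvd_of_dvd_pow (show p ∣ 2 ^ 3 from h1)))

end Sh

end T2
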