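import Cfsg.Agent.T2.Cnt
import Cfsg.Agent.T2.Alt

/-! Doubly transitive groups with two point stabiliser `A₄` or `A₅`: the setting. -/

set_option autoImplicit false
set_option linter.unusedVariables false
set_option linter.unusedSectionVars false
set_option linter.style.haveILetI false

namespace T2

open Cfsg Subgroup FT H4 H5 GW MulAction Finset
open scoped Classical

variable {G : Type*} [Group G] [Fintype G]

/-- the facts on the two point stabiliser -/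
structure KD (K : Subgroup G) (m d : ℕ) : Prop where
  card : Nat.card K = 4 * m
  cen : ∀ t ∈ K, orderOf t = 2 → ∃ a ∈ K, F4 t a ∧ K ⊓ Cen1 t = V4 t a
  one : OneCl K
  ex : ∃ t ∈ K, orderOf t = 2
  ext : ∀ I, I * I = 1 → I ∈ Nor K → (∃ z ∈ Cen K, z * z = 1 ∧ I⁻¹ * z ∈ K) ∨
    ((univ.filter fun k => k ∈ K ∧ I * k * (I * k) = 1).card = d ∧
      (∀ k ∈ K, I * k * (I * k) = 1 → ∃ l, l * I * l⁻¹ = I * k) ∧
      ∀ t ∈ K, orderOf t = 2 → ∃ k ∈ K, ∃ σ ∈ K, I * k * (I * k) = t ∧ σ * t = t * σ ∧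
        I * k * σ * (I * k)⁻¹ ≠ σ)

theorem AF.kd {A : Type*} [Group A] {m d : ℕ} (h : AF A m d) {K : Subgroup G} (e : K ≃* A) :
    KD K m d := by
  have o : ∀ {t : G} (ht : t ∈ K), orderOf (e ⟨t, ht⟩) = orderOf t := fun ht => by
    rw [MulEquiv.orderOf_eq, Subgroup.orderOf_mk]
  have o' : ∀ t : A, orderOf (e.symm t : G) = orderOf t := fun t => by
    rw [Subgroup.orderOf_coe, MulEquiv.orderOf_eq]
  have inj : ∀ {x y : K}, e x = e y → (x : G) = y := fun h => congrArg Subtype.val (e.injective h)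
  refine ⟨(Nat.card_congr e.toEquiv).trans h.card, fun t ht ot => ?_, fun a ha b hb oa ob => ?_, ?_,
    fun I hI hn => ?_⟩
  · obtain ⟨a, f, e1⟩ := h.cen _ ((o ht).trans ot)
    obtain ⟨⟨a, ha⟩, rfl⟩ := e.surjective a
    have f' : F4 t a := ⟨ot, (o ha).symm.trans f.ha, inj (x := ⟨t, ht⟩ * ⟨a, ha⟩)
      (y := ⟨a, ha⟩ * ⟨t, ht⟩) (by rw [map_mul, map_mul, f.c]),
      fun e' => f.ne (congrArg e (Subtype.ext e'))⟩
    refine ⟨a, ha, f', le_antisymm (fun c hc => f'.mem_V.2 ?_)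
      (V_le ⟨ht, c1.2 rfl⟩ ⟨ha, f'.aH⟩)⟩
    have : e ⟨c, hc.1⟩ ∈ Cen1 (e ⟨t, ht⟩) := by
      rw [c1, ← map_mul, ← map_mul]; exact congrArg e (Subtype.ext (c1.1 hc.2))
    rw [e1, f.mem_V, ← map_mul, ← map_one e] at this
    exact this.imp inj (Or.imp inj (Or.imp inj inj))
  · obtain ⟨g, -, e1⟩ := h.one _ trivial _ trivial ((o ha).trans oa) ((o hb).trans ob)
    obtain ⟨g, rfl⟩ := e.surjective g
    rw [← map_inv, ← map_mul, ← map_mul] at e1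
    exact ⟨g, g.2, inj e1⟩
  · obtain ⟨t, ht⟩ := h.ex
    exact ⟨_, (e.symm t).2, (o' t).trans ht⟩
  have i1 : I⁻¹ = I := inv_eq_of_mul_eq_one_right hI
  obtain ⟨β, hβ⟩ : ∃ β : K ≃* K, ∀ x, (β x : G) = I * x * I⁻¹ :=
    ⟨K.normalizerMonoidHom ⟨I, hn⟩, fun _ => rfl⟩
  have sq : ∀ x : K, I * x * (I * x) = (β x * x : K) := fun x => by
    rw [Subgroup.coe_mul, hβ, i1]; simp only [mul_assoc]
  have hα : ∀ x, (e.symm.trans (β.trans e)) (e x) = e (β x) := fun x => by simp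
  rcases h.aut (e.symm.trans (β.trans e)) (fun x => by
    obtain ⟨x, rfl⟩ := e.surjective x
    rw [hα, hα]
    refine congrArg e (Subtype.ext ?_)
    rw [hβ, hβ, i1, ← mul_assoc, ← mul_assoc, hI, one_mul, mul_assoc, hI, mul_one]) with
    ⟨k, hk⟩ | ⟨y1, y2, y3⟩
  · obtain ⟨k, rfl⟩ := e.surjective k
    have c : (k : G)⁻¹ * I ∈ Cen K := GW.cen.2 fun x hx => by
      have := hk (e ⟨x, hx⟩)
      rw [hα, ← map_inv, ← map_mul, ← map_mul] at this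
      have := (hβ _).symm.trans (inj this)
      change I * x * I⁻¹ = k * x * (k : G)⁻¹ at this
      rw [mul_assoc, mul_inv_eq_iff_eq_mul.1 this]; group
    have m1 : I⁻¹ * ((k : G)⁻¹ * I) ∈ K := by
      rw [← mul_assoc]; exact cmem' hn (inv_mem k.2)
    refine Or.inl ⟨_, c, ?_, m1⟩
    have m2 : (k : G)⁻¹ * I * ((k : G)⁻¹ * I) ∈ K := by
      rw [mul_assoc]; exact mul_mem (inv_mem k.2) (by rwa [i1] at m1)
    have := h.zc (e ⟨_, m2⟩) fun x => by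
      obtain ⟨x, rfl⟩ := e.surjective x
      rw [← map_mul, ← map_mul]
      exact congrArg e (Subtype.ext (GW.cen.1 (mul_mem c c) x x.2))
    exact inj (this.trans (map_one e).symm)
  refine Or.inr ⟨?_, fun k hk h1 => ?_, fun t ht ot => ?_⟩
  · rw [← y1, ← Fintype.card_subtype, ← Nat.card_eq_fintype_card]
    refine Nat.card_congr ⟨fun k => ⟨e ⟨k.1, k.2.1⟩, ?_⟩, fun k => ⟨e.symm k.1, (e.symm k.1).2, ?_⟩,
      fun _ => by simp, fun _ => Subtype.ext (by simp)⟩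
    · rw [hα, ← map_mul, ← map_one e]
      exact congrArg e (Subtype.ext ((sq ⟨k.1, k.2.1⟩).symm.trans k.2.2))
    · obtain ⟨k, hk⟩ := k
      obtain ⟨k, rfl⟩ := e.surjective k
      rw [hα, ← map_mul, ← map_one e] at hk
      simp only [MulEquiv.symm_apply_apply]
      rw [sq]; exact inj hk
  · obtain ⟨l, hl⟩ := y2 (e ⟨k, hk⟩) (by
      rw [hα, ← map_mul, ← map_one e]
      exact congrArg e (Subtype.ext ((sq ⟨k, hk⟩).symm.trans h1)))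
    obtain ⟨l, rfl⟩ := e.surjective l
    rw [hα, ← map_inv, ← map_mul] at hl
    have := inj hl
    rw [Subgroup.coe_mul, hβ] at this
    refine ⟨l, ?_⟩
    change k = I * l * I⁻¹ * (l : G)⁻¹ at this
    rw [this, ← mul_assoc, ← mul_assoc, ← mul_assoc, hI, one_mul, i1]
  · obtain ⟨k, σ, e1, e2, e3⟩ := y3 _ ((o ht).trans ot)
    obtain ⟨k, rfl⟩ := e.surjective k
    obtain ⟨σ, rfl⟩ := e.surjective σ
    rw [hα, ← map_mul] at e1
    rw [← map_mul, ← map_mul] at e2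
    rw [← map_inv, ← map_mul, ← map_mul, hα] at e3
    refine ⟨k, k.2, σ, σ.2, (sq k).trans (inj e1), inj e2, fun e4 => e3 (congrArg e (Subtype.ext ?_))⟩
    rw [hβ, ← e4]; simp [mul_assoc]

variable {Ω : Type*} [Fintype Ω] [MulAction G Ω] [FaithfulSMul G Ω]

/-- the hypothesis -/
structure Hy (G : Type*) [Group G] [Fintype G] (Ω : Type*) [Fintype Ω] [MulAction G Ω] (m d : ℕ) :
    Prop where
  tt : TT (⊤ : Subgroup G) (univ : Finset Ω)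
  kd : ∀ x y : Ω, x ≠ y → KD (St G x y) m d
  odd : Odd m

theorem conj_St (g : G) (x y : Ω) {k : G} : g * k * g⁻¹ ∈ St G (g • x) (g • y) ↔ k ∈ St G x y := by
  simp [mem_St, mul_smul]

theorem hy_of {A : Type*} [Group A] {m d : ℕ} (h : AF A m d) (hm : Odd m)
    (h2 : IsMultiplyPretransitive G Ω 2) {a b : Ω} (hab : a ≠ b) (e : St G a b ≃* A) :
    Hy G Ω m d := by
  rw [is_two_pretransitive_iff] at h2
  refine ⟨⟨fun _ _ _ _ => mem_univ _, fun x _ y _ x' _ y' _ h1 h3 => ?_⟩, fun x y ne => ?_, hm⟩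
  · obtain ⟨g, h⟩ := h2 h1 h3
    exact ⟨g, trivial, h⟩
  · obtain ⟨g, rfl, rfl⟩ := h2 hab ne
    refine h.kd ((H2.conjEquiv g fun k => ?_).symm.trans e)
    rw [← conj_St g a b]; simp [mul_assoc]

/-- the involutions fixing two points -/
noncomputable def DD (G : Type*) [Group G] [Fintype G] (Ω : Type*) [Fintype Ω] [MulAction G Ω] :
    Finset G := univ.filter fun g => orderOf g = 2 ∧ 1 < (Fx (univ : Finset Ω) g).card

theorem mem_DD {g : G} : g ∈ DD G Ω ↔ orderOf g = 2 ∧ ∃ x y : Ω, x ≠ y ∧ g ∈ St G x y := by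
  simp only [DD, mem_filter, mem_univ, true_and, one_lt_card, mem_Fx, mem_St]
  exact and_congr_right fun _ => ⟨fun ⟨x, h1, y, h2, h3⟩ => ⟨x, y, h3, h1, h2⟩,
    fun ⟨x, y, h3, h1, h2⟩ => ⟨x, h1, y, h2, h3⟩⟩

theorem card_Fx_univ (c g : G) :
    (Fx (univ : Finset Ω) (c * g * c⁻¹)).card = (Fx (univ : Finset Ω) g).card :=
  card_Fx_conj (fun _ _ => mem_univ _) (fun _ _ => mem_univ _) g

theorem DD_conj {g : G} (hg : g ∈ DD G Ω) (c : G) : c * g * c⁻¹ ∈ DD G Ω := by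
  simp only [DD, mem_filter, mem_univ, true_and] at hg ⊢
  rwa [oconj, card_Fx_univ]

theorem DD_conj' {g c : G} (hg : c * g * c⁻¹ ∈ DD G Ω) : g ∈ DD G Ω := by
  simpa [mul_assoc] using DD_conj hg c⁻¹

theorem ex_move {g : G} (h : g ≠ 1) : ∃ x : Ω, g • x ≠ x := by
  by_contra e
  push Not at e
  exact h (eq_of_smul_eq_smul (α := Ω) fun x => by rw [e x, one_smul])

theorem cen_Fx {t c : G} (hc : c ∈ Cen1 t) {X : Finset Ω} (h : ∀ x ∈ X, c • x ∈ X) :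
    ∀ x ∈ Fx X t, c • x ∈ Fx X t := fun x hx =>
  mem_Fx.2 ⟨h x (mem_Fx.1 hx).1, by rw [← mul_smul, ← c1.1 hc, mul_smul, (mem_Fx.1 hx).2]⟩

/-- the configuration -/
structure Cf (m d : ℕ) (a b : Ω) (τ σ : G) : Prop extends Hy G Ω m d where
  ne : a ≠ b
  f4 : F4 τ σ
  V : St G a b ⊓ Cen1 τ = V4 τ σ

theorem Hy.cf {m d : ℕ} (h : Hy G Ω m d) {a b : Ω} (ne : a ≠ b) {τ : G} (h1 : τ ∈ St G a b)
    (h2 : orderOf τ = 2) : ∃ σ, Cf m d a b τ σ :=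
  let ⟨σ, _, h3, h4⟩ := (h.kd a b ne).cen τ h1 h2
  ⟨σ, h, ne, h3, h4⟩

/-- the fixed points of `τ` -/
noncomputable abbrev Dl (Ω : Type*) [Fintype Ω] [MulAction G Ω] (τ : G) : Finset Ω := Fx univ τ

/-- the fixed points of the four-group -/
noncomputable abbrev Ph (Ω : Type*) [Fintype Ω] [MulAction G Ω] (τ σ : G) : Finset Ω :=
  Fx (Dl Ω τ) σ

/-- the normaliser of the four-group in `C(τ)` -/
abbrev HH (τ σ : G) : Subgroup G := Cen1 τ ⊓ Nor (V4 τ σ)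

/-- the elements of `C(τ)` outside `⟨τ⟩` that fix two points of `Fix τ` -/
noncomputable def EE (Ω : Type*) [Fintype Ω] [MulAction G Ω] (τ : G) : Finset G :=
  univ.filter fun g => g ∈ Cen1 τ ∧ g ≠ 1 ∧ g ≠ τ ∧ 1 < (Fx (Dl Ω τ) g).card

theorem mem_Dl {τ : G} {x : Ω} : x ∈ Dl Ω τ ↔ τ • x = x := by simp [mem_Fx]

theorem mem_Ph {τ σ : G} {x : Ω} : x ∈ Ph Ω τ σ ↔ τ • x = x ∧ σ • x = x := by simp [mem_Fx]

theorem mem_EE {τ g : G} : g ∈ EE Ω τ ↔ g ∈ Cen1 τ ∧ g ≠ 1 ∧ g ≠ τ ∧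
    ∃ x ∈ Dl Ω τ, ∃ y ∈ Dl Ω τ, x ≠ y ∧ g ∈ St G x y := by
  simp only [EE, mem_filter, mem_univ, true_and, one_lt_card, mem_St]
  refine and_congr_right fun _ => and_congr_right fun _ => and_congr_right fun _ =>
    ⟨fun ⟨x, h1, y, h2, h3⟩ => ⟨x, (mem_Fx.1 h1).1, y, (mem_Fx.1 h2).1, h3, (mem_Fx.1 h1).2,
      (mem_Fx.1 h2).2⟩, fun ⟨x, h1, y, h2, h3, h4, h5⟩ => ⟨x, mem_Fx.2 ⟨h1, h4⟩, y,
      mem_Fx.2 ⟨h2, h5⟩, h3⟩⟩

namespace Cf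

variable {m d : ℕ} {a b : Ω} {τ σ : G} (h : Cf m d a b τ σ)
include h

theorem K : KD (St G a b) m d := h.kd a b h.ne

theorem VK : V4 τ σ ≤ St G a b := h.V ▸ inf_le_left

theorem VC : V4 τ σ ≤ Cen1 τ := h.V ▸ inf_le_right

theorem tK : τ ∈ St G a b := h.VK (t_V τ σ)

theorem sK : σ ∈ St G a b := h.VK (a_V τ σ)

theorem aD : a ∈ Dl Ω τ := mem_Dl.2 h.tK.1

theorem bD : b ∈ Dl Ω τ := mem_Dl.2 h.tK.2

theorem aP : a ∈ Ph Ω τ σ := mem_Ph.2 ⟨h.tK.1, h.sK.1⟩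

theorem bP : b ∈ Ph Ω τ σ := mem_Ph.2 ⟨h.tK.2, h.sK.2⟩

theorem tD : τ ∈ DD G Ω := mem_DD.2 ⟨h.f4.ht, a, b, h.ne, h.tK⟩

theorem two {x y x' y' : Ω} (h1 : x ≠ y) (h2 : x' ≠ y') : ∃ g : G, g • x = x' ∧ g • y = y' :=
  let ⟨g, _, e⟩ := h.tt.two x (mem_univ _) y (mem_univ _) x' (mem_univ _) y' (mem_univ _) h1 h2
  ⟨g, e⟩

theorem conj2 {t : G} (ht : orderOf t = 2) {x y x' y' : Ω} (h1 : x ≠ y) (h2 : x' ≠ y')
    (h3 : t ∈ St G x y) (h4 : τ ∈ St G x' y') :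
    ∃ g : G, g • x = x' ∧ g • y = y' ∧ g * t * g⁻¹ = τ := by
  obtain ⟨g, rfl, rfl⟩ := h.two h1 h2
  obtain ⟨k, hk, e⟩ := (h.kd _ _ h2).one _ ((conj_St g x y).2 h3) τ h4 (iconj ht g) h.f4.ht
  exact ⟨k * g, by rw [mul_smul, hk.1], by rw [mul_smul, hk.2], by rw [← e]; group⟩

theorem tC : TT (Cen1 τ) (Dl Ω τ) :=
  ⟨fun c hc => cen_Fx hc fun _ _ => mem_univ _, fun x hx y hy x' hx' y' hy' h1 h2 =>
    let ⟨g, e1, e2, e3⟩ := h.conj2 h.f4.ht h1 h2 ⟨mem_Dl.1 hx, mem_Dl.1 hy⟩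
      ⟨mem_Dl.1 hx', mem_Dl.1 hy'⟩
    ⟨g, c1'.2 e3, e1, e2⟩⟩

theorem move {x y : Ω} (hx : x ∈ Dl Ω τ) (hy : y ∈ Dl Ω τ) (ne : x ≠ y) : ∃ σ', Cf m d x y τ σ' :=
  h.toHy.cf ne ⟨mem_Dl.1 hx, mem_Dl.1 hy⟩ h.f4.ht

theorem c4 : Nat.card ↥(Cen1 τ ⊓ St G a b) = 4 := by rw [inf_comm, h.V, h.f4.card_V]

theorem mem_V {g : G} (h1 : g ∈ Cen1 τ) (h2 : g ∈ St G a b) : g ∈ V4 τ σ := h.V ▸ ⟨h2, h1⟩

theorem sq_V {g : G} (h1 : g ∈ V4 τ σ) : g * g = 1 := by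
  rcases h.f4.mem_V.1 h1 with rfl | rfl | rfl | rfl
  exacts [mul_one _, ii h.f4.ht, ii h.f4.ha, h.f4.sq]

theorem sq_fix {x y : Ω} (hx : x ∈ Dl Ω τ) (hy : y ∈ Dl Ω τ) (ne : x ≠ y) {g : G} (h1 : g ∈ Cen1 τ)
    (h2 : g ∈ St G x y) : g * g = 1 :=
  let ⟨_, h'⟩ := h.move hx hy ne
  h'.sq_V (h'.mem_V h1 h2)

theorem V_Ph {x : Ω} (hx : x ∈ Ph Ω τ σ) : V4 τ σ ≤ stabilizer G x :=
  V_le (mem_Ph.1 hx).1 (mem_Ph.1 hx).2

theorem V_tr {v : G} (hv : v ∈ V4 τ σ) : Tr (Ph Ω τ σ) v := fun x hx => h.V_Ph hx hv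

theorem V_eq {x y : Ω} (hx : x ∈ Ph Ω τ σ) (hy : y ∈ Ph Ω τ σ) (ne : x ≠ y) :
    St G x y ⊓ Cen1 τ = V4 τ σ := by
  obtain ⟨_, h'⟩ := h.move (Fx_sub _ _ hx) (Fx_sub _ _ hy) ne
  refine (eq_of_le_of_card_ge (le_inf (le_inf (h.V_Ph hx) (h.V_Ph hy)) h.VC) ?_).symm
  exact (h'.V ▸ h'.f4.card_V :).le.trans h.f4.card_V.ge

theorem sH : Sh (HH τ σ) (Ph Ω τ σ) := by
  refine ⟨⟨fun c hc x hx => mem_Fx.2 ⟨h.tC.mem c hc.1 x (Fx_sub _ _ hx), ?_⟩,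
    fun x hx y hy x' hx' y' hy' h1 h2 => ?_⟩, fun g hg x hx y hy ne e1 e2 =>
    h.V_tr (h.V_eq hx hy ne ▸ ⟨⟨e1, e2⟩, hg.1⟩)⟩
  · have := h.V_Ph hx (cmem' hc.2 (a_V τ σ))
    rwa [mem_stabilizer_iff, mul_smul, mul_smul, inv_smul_eq_iff] at this
  · obtain ⟨g, hg, rfl, rfl⟩ := h.tC.two x (Fx_sub _ _ hx) y (Fx_sub _ _ hy) x' (Fx_sub _ _ hx') y'
      (Fx_sub _ _ hy') h1 h2
    refine ⟨g, ⟨hg, mnor fun v hv => h.V_eq hx' hy' h2 ▸ ⟨(conj_St g x y).2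
      ⟨h.V_Ph hx hv, h.V_Ph hy hv⟩, (Cen1 τ).mul_mem (mul_mem hg (h.VC hv)) (inv_mem hg)⟩⟩, rfl, rfl⟩

theorem VH : V4 τ σ ≤ HH τ σ := le_inf h.VC le_normalizer

theorem tr_V {g : G} (hg : g ∈ Cen1 τ) (t : Tr (Ph Ω τ σ) g) : g ∈ V4 τ σ :=
  h.mem_V hg ⟨t a h.aP, t b h.bP⟩

theorem h4 : Nat.card ↥(HH τ σ ⊓ St G a b) = 4 := by
  rw [← h.f4.card_V]
  exact congrArg (fun S : Subgroup G => Nat.card S)
    (le_antisymm (fun g hg => h.mem_V hg.1.1 hg.2) (le_inf h.VH h.VK))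

theorem j2 : 2 ≤ (Ph Ω τ σ).card := one_lt_card.2 ⟨a, h.aP, b, h.bP, h.ne⟩

theorem ji : (Ph Ω τ σ).card ≤ (Dl Ω τ).card := card_le_card (Fx_sub _ _)

theorem i_lt : (Dl Ω τ).card < Fintype.card Ω := by
  obtain ⟨x, hx⟩ := ex_move (Ω := Ω) (ine h.f4.ht)
  exact card_lt_univ_of_notMem fun e => hx (mem_Dl.1 e)

theorem par_n : Fintype.card Ω % 2 = (Dl Ω τ).card % 2 :=
  parity (X := univ) (fun _ _ => mem_univ _) fun x _ => by rw [← mul_smul, ii h.f4.ht, one_smul]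

theorem par_i : (Dl Ω τ).card % 2 = (Ph Ω τ σ).card % 2 :=
  parity (h.tC.mem σ h.f4.aH) fun x _ => by rw [← mul_smul, ii h.f4.ha, one_smul]

theorem cG : Nat.card G = Fintype.card Ω * (Fintype.card Ω - 1) * (4 * m) := by
  rw [← card_top, h.tt.card3 (mem_univ a) (mem_univ b) h.ne, top_inf_eq, h.K.card, card_univ]

theorem cGa : Nat.card (stabilizer G a) = (Fintype.card Ω - 1) * (4 * m) := by
  have := h.tt.card2 (mem_univ a) (mem_univ b) h.ne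
  rwa [top_inf_eq, top_inf_eq, h.K.card, card_univ] at this

theorem cC : Nat.card (Cen1 τ) = (Dl Ω τ).card * ((Dl Ω τ).card - 1) * 4 := by
  rw [h.tC.card3 h.aD h.bD h.ne, h.c4]

theorem cCa : Nat.card ↥(Cen1 τ ⊓ stabilizer G a) = ((Dl Ω τ).card - 1) * 4 := by
  rw [h.tC.card2 h.aD h.bD h.ne, h.c4]

theorem cH : Nat.card (HH τ σ) = (Ph Ω τ σ).card * ((Ph Ω τ σ).card - 1) * 4 := by
  rw [h.sH.toTT.card3 h.aP h.bP h.ne, h.h4]

theorem cHa : Nat.card ↥(HH τ σ ⊓ stabilizer G a) = ((Ph Ω τ σ).card - 1) * 4 := by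
  rw [h.sH.toTT.card2 h.aP h.bP h.ne, h.h4]

theorem D_conj {t : G} (ht : t ∈ DD G Ω) : ∃ g, g * t * g⁻¹ = τ :=
  let ⟨h1, x, y, h2, h3⟩ := mem_DD.1 ht
  let ⟨g, _, _, e⟩ := h.conj2 h1 h2 h.ne h3 h.tK
  ⟨g, e⟩

theorem D_fx {t : G} (ht : t ∈ DD G Ω) : (Fx (univ : Finset Ω) t).card = (Dl Ω τ).card := by
  obtain ⟨g, rfl⟩ := h.D_conj ht
  rw [card_Fx_univ]

theorem cK : ((DD G Ω).filter (· ∈ St G a b)).card = m := by
  have e1 := card_class_in (St G a b) τ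
  have e2 := card_inf_mul_relIndex (Cen1 τ) (St G a b)
  rw [h.c4, h.K.card, ← e1] at e2
  rw [← Nat.eq_of_mul_eq_mul_left (by norm_num) e2, Nat.card_eq_fintype_card, Fintype.card_subtype]
  congr 1
  ext t
  simp only [mem_filter, mem_univ, true_and]
  refine ⟨fun ⟨h1, h2⟩ => h.K.one τ h.tK t h2 h.f4.ht (mem_DD.1 h1).1, ?_⟩
  rintro ⟨g, hg, rfl⟩
  exact ⟨DD_conj h.tD g, mul_mem (mul_mem hg h.tK) (inv_mem hg)⟩

theorem cD : (DD G Ω).card * ((Dl Ω τ).card * ((Dl Ω τ).card - 1)) =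
    Fintype.card Ω * (Fintype.card Ω - 1) * m := by
  rw [h.tt.cnt_fix (fun e he g _ => DD_conj he g) (fun e he => h.D_fx he) (mem_univ a) (mem_univ b)
    h.ne, h.cK, card_univ]

theorem idx : (Cen1 τ).index = (DD G Ω).card := by
  have e := (Cen1 τ).card_mul_index
  rw [h.cC, h.cG] at e
  have e2 := h.cD
  have := h.j2
  have := h.ji
  refine Nat.eq_of_mul_eq_mul_left (show 0 < (Dl Ω τ).card * ((Dl Ω τ).card - 1) * 4 from
    Nat.mul_pos (Nat.mul_pos (by omega) (by omega)) (by norm_num)) (by linarith)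

theorem N1 : m * (Fintype.card Ω - (Dl Ω τ).card) =
    ((DD G Ω).filter fun e => e • a = b).card * ((Dl Ω τ).card * ((Dl Ω τ).card - 1)) := by
  have e1 := h.tt.cnt_move (fun _ _ => trivial) (fun e he g _ => DD_conj he g)
    (fun e he => h.D_fx he) (mem_univ a) (mem_univ b) h.ne
  have e2 := h.cD
  rw [card_univ] at e1
  have := h.j2
  have := h.ji
  have := h.i_lt
  refine Nat.eq_of_mul_eq_mul_left (show 0 < Fintype.card Ω * (Fintype.card Ω - 1) from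
    Nat.mul_pos (by omega) (by omega)) ?_
  rw [← mul_assoc, ← e2, ← mul_assoc (_ * (_ - 1)) (card (filter _ _)), ← e1]; ring

theorem E_conj {e g : G} (he : e ∈ EE Ω τ) (hg : g ∈ Cen1 τ) : g * e * g⁻¹ ∈ EE Ω τ := by
  simp only [EE, mem_filter, mem_univ, true_and] at he ⊢
  rw [card_Fx_conj (h.tC.mem g hg) (h.tC.mem _ (inv_mem hg))]
  refine ⟨mul_mem (mul_mem hg he.1) (inv_mem hg), by simpa using he.2.1, fun e' => he.2.2.1 ?_,
    he.2.2.2⟩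
  rw [← c1'.1 hg] at e'
  simpa using e'

theorem E_to {e : G} (he : e ∈ EE Ω τ) : ∃ g ∈ Cen1 τ, g * e * g⁻¹ = σ ∨ g * e * g⁻¹ = τ * σ := by
  obtain ⟨h1, h2, h3, x, hx, y, hy, ne, h4⟩ := mem_EE.1 he
  obtain ⟨g, hg, e1, e2⟩ := h.tC.two x hx y hy a h.aD b h.bD ne h.ne
  obtain ⟨k1, k2, k3, -⟩ := mem_EE.1 (h.E_conj he hg)
  have := h.f4.mem_V.1 (h.mem_V k1 (e1 ▸ e2 ▸ (conj_St g x y).2 h4))
  exact ⟨g, hg, by tauto⟩

theorem Fx_mul (g : G) (hg : g ∈ Cen1 τ) : Fx (Dl Ω τ) (τ * g) = Fx (Dl Ω τ) g := by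
  ext x
  simp only [mem_Fx (X := Dl Ω τ)]
  exact and_congr_right fun hx => by rw [mul_smul, mem_Dl.1 (h.tC.mem g hg x hx)]

theorem E_fx {e : G} (he : e ∈ EE Ω τ) : (Fx (Dl Ω τ) e).card = (Ph Ω τ σ).card := by
  obtain ⟨g, hg, e1⟩ := h.E_to he
  rw [← card_Fx_conj (h.tC.mem g hg) (h.tC.mem _ (inv_mem hg))]
  rcases e1 with e1 | e1 <;> rw [e1]
  rw [h.Fx_mul σ h.f4.aH]

theorem E_mul {e : G} (he : e ∈ EE Ω τ) : τ * e ∈ EE Ω τ := by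
  simp only [EE, mem_filter, mem_univ, true_and] at he ⊢
  rw [h.Fx_mul e he.1]
  refine ⟨mul_mem (c1.2 rfl) he.1, fun e' => he.2.2.1 ?_, by simpa using he.2.1, he.2.2.2⟩
  rw [eq_inv_of_mul_eq_one_right e', iinv h.f4.ht]

theorem E_D {e : G} (he : e ∈ EE Ω τ) : e ∈ DD G Ω := by
  obtain ⟨h1, h2, h3, x, hx, y, hy, ne, h4⟩ := mem_EE.1 he
  exact mem_DD.2 ⟨orderOf_eq_two' (h.sq_fix hx hy ne h1 h4) h2, x, y, ne, h4⟩

theorem N2 : 2 * ((Dl Ω τ).card - (Ph Ω τ σ).card) =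
    ((EE Ω τ).filter fun e => e • a = b).card * ((Ph Ω τ σ).card * ((Ph Ω τ σ).card - 1)) := by
  have e1 := h.tC.cnt_move (fun _ he => (mem_EE.1 he).1) (fun e he g hg => h.E_conj he hg)
    (fun e he => h.E_fx he) h.aD h.bD h.ne
  have e2 := h.tC.cnt_fix (fun e he g hg => h.E_conj he hg) (fun e he => h.E_fx he) h.aD h.bD h.ne
  have e3 : (EE Ω τ).filter (· ∈ St G a b) = {σ, τ * σ} := by
    have : σ ∈ EE Ω τ := mem_EE.2 ⟨h.f4.aH, ine h.f4.ha, h.f4.ne, a, h.aD, b, h.bD, h.ne, h.sK⟩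
    ext e
    simp only [mem_filter, mem_insert, mem_singleton]
    refine ⟨fun ⟨h1, h2⟩ => ?_, ?_⟩
    · obtain ⟨k1, k2, k3, -⟩ := mem_EE.1 h1
      have := h.f4.mem_V.1 (h.mem_V k1 h2)
      tauto
    · rintro (rfl | rfl)
      exacts [⟨this, h.sK⟩, ⟨h.E_mul this, mul_mem h.tK h.sK⟩]
  rw [e3, card_pair h.f4.mul'.ne.symm] at e2
  have := h.j2
  have := h.ji
  refine Nat.eq_of_mul_eq_mul_left (show 0 < (Dl Ω τ).card * ((Dl Ω τ).card - 1) from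
    Nat.mul_pos (by omega) (by omega)) ?_
  rw [← mul_assoc, ← e2, ← mul_assoc (_ * (_ - 1)) (card (filter _ _)), ← e1]; ring

theorem even_s : Even ((EE Ω τ).filter fun e => e • a = b).card :=
  even_card_of_invol _ (τ * ·) (fun e he => mem_filter.2 ⟨h.E_mul (mem_filter.1 he).1, by
    rw [mul_smul, (mem_filter.1 he).2, h.tK.2]⟩)
    (fun e _ => by rw [← mul_assoc, ii h.f4.ht, one_mul]) fun e _ e' => ine h.f4.ht (by simpa using e')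

/-- an involution can be moved to one interchanging `a` and `b` -/
theorem to_swap {t : G} (ht : t ≠ 1) : ∃ g : G, (g * t * g⁻¹) • a = b := by
  obtain ⟨x, hx⟩ := ex_move (Ω := Ω) ht
  obtain ⟨g, e1, e2⟩ := h.two hx.symm h.ne
  exact ⟨g, by rw [← e1, ← e2]; simp [mul_smul]⟩

theorem swap_K {g k : G} (g2 : g * g ∈ St G a b) (k2 : k * k ∈ St G a b) (h1 : g • a = b)
    (h2 : k • a = b) : g⁻¹ * k ∈ St G a b := by
  have e1 : g • b = a := by rw [← h1, ← mul_smul, g2.1]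
  have e2 : k • b = a := by rw [← h2, ← mul_smul, k2.1]
  exact mem_St.2 ⟨by rw [mul_smul, h2, inv_smul_eq_iff, h1],
    by rw [mul_smul, e2, inv_smul_eq_iff, e1]⟩

/-- the two possible types -/
theorem dich : (∃ z ∈ Cen (St G a b), z * z = 1 ∧ z • a = b) ∨
    (((DD G Ω).filter fun e => e • a = b).card = d ∧ OneCl (⊤ : Subgroup G) ∧
      ∃ w : G, w • a = b ∧ w * w = τ ∧ w * σ * w⁻¹ = τ * σ) := by
  obtain ⟨g, h1⟩ := h.to_swap (ine h.f4.ht)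
  have h2 := DD_conj h.tD g
  generalize g * τ * g⁻¹ = I at h1 h2
  have h3 := ii (mem_DD.1 h2).1
  have h4 : I • b = a := by rw [← h1, ← mul_smul, h3, one_smul]
  have ik : ∀ k ∈ St G a b, (I * k) • a = b := fun k hk => by rw [mul_smul, hk.1, h1]
  rcases h.K.ext I h3 (mnor fun k hk => by
    have := (conj_St I a b).2 hk
    rw [h1, h4] at this
    exact ⟨this.2, this.1⟩) with ⟨z, z1, z2, z3⟩ | ⟨y1, y2, y3⟩
  · exact Or.inl ⟨z, z1, z2, by simpa using ik _ z3⟩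
  have y4 : ∀ t : G, t * t = 1 → t • a = b → ∃ l, l * I * l⁻¹ = t := fun t t1 t2 => by
    simpa using y2 _ (h.swap_K (h3 ▸ one_mem _) (t1 ▸ one_mem _) h1 t2) (by simpa using t1)
  have y5 : ∀ t : G, orderOf t = 2 → t ∈ DD G Ω := fun t ht => by
    obtain ⟨c, hc⟩ := h.to_swap (ine ht)
    obtain ⟨l, hl⟩ := y4 _ (ii (iconj ht c)) hc
    exact DD_conj' (hl ▸ DD_conj h2 l)
  refine Or.inr ⟨?_, fun s _ t _ hs ht => ?_, ?_⟩
  · rw [← y1]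
    refine card_bij' (fun e _ => I⁻¹ * e) (fun k _ => I * k) (fun e he => ?_) (fun k hk => ?_)
      (fun _ _ => by simp) (fun _ _ => by simp)
    · obtain ⟨e1, e2⟩ := mem_filter.1 he
      have e3 := ii (mem_DD.1 e1).1
      exact mem_filter.2 ⟨mem_univ _, h.swap_K (h3 ▸ one_mem _) (e3 ▸ one_mem _) h1 e2,
        by simpa using e3⟩
    · obtain ⟨-, k1, k2⟩ := mem_filter.1 hk
      refine mem_filter.2 ⟨y5 _ (orderOf_eq_two' k2 fun e => h.ne ?_), ik k k1⟩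
      rw [← ik k k1, e, one_smul]
  · obtain ⟨c, e1⟩ := h.D_conj (y5 s hs)
    obtain ⟨c', e2⟩ := h.D_conj (y5 t ht)
    refine ⟨c'⁻¹ * c, trivial, ?_⟩
    rw [mul_inv_rev, mul_assoc, mul_assoc, ← mul_assoc _ c⁻¹, ← mul_assoc c, ← mul_assoc c, e1, ← e2]
    group
  · obtain ⟨k, hk, s, hs, e1, e2, e3⟩ := y3 τ h.tK h.f4.ht
    have e4 := ik k hk
    have e5 : I * k ∈ Nor (St G a b) := mul_mem (mnor fun k hk => by
      have := (conj_St I a b).2 hk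
      rw [h1, h4] at this
      exact ⟨this.2, this.1⟩) (le_normalizer hk)
    generalize I * k = w at e1 e3 e4 e5
    have e6 : w ∈ Cen1 τ := c1.2 (by rw [← e1, mul_assoc])
    refine ⟨w, e4, e1, (h.f4.fix_or (h.V ▸ minf e5 (mc1 e6)) e6).resolve_left fun e7 => e3 ?_⟩
    exact c1'.1 (c1s.1 (V_le (c1s.1 e6) (c1s.1 (c1'.2 e7)) (h.mem_V (c1.2 e2) hs)))

end Cf

end T2
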