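import Cfsg.Agent.T2.TY
import Cfsg.Agent.H9.Loc1

/-! The case of a central involution in the setwise stabiliser, part 1. -/

set_option autoImplicit false
set_option linter.unusedVariables false
set_option linter.unusedSectionVars false
set_option linter.style.haveILetI false

namespace T2

open Cfsg Subgroup FT H4 H5 GW MulAction Finset
open scoped Classical

theorem numA {c k q s : ℕ} (hc : 0 < c) (hk : 0 < c * k)
    (h : (q = 4 * k + 1 ∧ s = 2 * k + 1) ∨ (q + 1 = 4 * k ∧ s + 1 = 2 * k)) :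
    3 * (c * k) ^ 2 ≤ c ^ 2 * (q * s) := by
  obtain ⟨k, rfl⟩ : ∃ l, k = l + 1 := ⟨k - 1, by have := Nat.pos_of_mul_pos_left hk; omega⟩
  rw [mul_pow, mul_left_comm]
  refine Nat.mul_le_mul_left _ ?_
  rcases h with ⟨rfl, rfl⟩ | ⟨h1, h2⟩
  · nlinarith
  · rw [show q = 4 * k + 3 by omega, show s = 2 * k + 1 by omega]; nlinarith

variable {G : Type*} [Group G] [Fintype G] {Ω : Type*} [Fintype Ω] [MulAction G Ω]
  [FaithfulSMul G Ω]

namespace Cf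

variable {m d : ℕ} {a b : Ω} {τ σ : G} (h : Cf m d a b τ σ)
include h

theorem rot : ∃ ρ ∈ St G a b, Rot τ σ ρ := by
  obtain ⟨ρ, h1, h2⟩ := (D2_of_F4 (h.f4.sub h.tK h.sK) (by
    rw [h.K.card]; have := Nat.odd_iff.1 h.odd; omega)).rot_top h.K.one.sub (h.f4.sub h.tK h.sK)
  exact ⟨ρ, ρ.2, congrArg Subtype.val h1, congrArg Subtype.val h2⟩

theorem Ga_cen (ho : Fintype.card Ω % 2 = 0) :
    stabilizer G a ⊓ Cen1 τ ⊓ Cen1 σ = HH τ σ ⊓ stabilizer G a :=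
  le_antisymm (fun g hg => ⟨h.cs_le ⟨hg.1.2, hg.2⟩, hg.1.1⟩)
    fun g hg => ⟨⟨hg.2, hg.1.1⟩, h.Ha_le (by have := h.par_n; have := h.par_i; omega) hg⟩

theorem Ga_one (ho : Fintype.card Ω % 2 = 0) : OneCl (stabilizer G a) := by
  have k : ∀ t ∈ stabilizer G a, orderOf t = 2 → ∃ g ∈ stabilizer G a, g * t * g⁻¹ = τ :=
    fun t ht ot => by
      have h1 := parity (X := (univ : Finset Ω)) (g := t) (fun _ _ => mem_univ _)
        fun x _ => by rw [← mul_smul, ii ot, one_smul]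
      have h2 : a ∈ Fx univ t := mem_Fx.2 ⟨mem_univ _, ht⟩
      have h3 := card_pos.2 ⟨a, h2⟩
      rw [card_univ] at h1
      obtain ⟨x, hx, ne⟩ := exists_mem_ne (show 1 < (Fx (univ : Finset Ω) t).card by omega) a
      obtain ⟨g, e1, -, e2⟩ := h.conj2 ot ne.symm h.ne ⟨ht, (mem_Fx.1 hx).2⟩ h.tK
      exact ⟨g, e1, e2⟩
  intro s hs t ht os ot
  obtain ⟨c, hc, e1⟩ := k s hs os
  obtain ⟨c', hc', e2⟩ := k t ht ot
  refine ⟨c'⁻¹ * c, mul_mem (inv_mem hc') hc, ?_⟩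
  rw [mul_inv_rev, mul_assoc, mul_assoc, ← mul_assoc _ c⁻¹, ← mul_assoc c, ← mul_assoc c, e1, ← e2]
  group

theorem even_gw (ho : Fintype.card Ω % 2 = 0) : ∃ c k q s : ℕ, 0 < c ∧
    (Dl Ω τ).card - 1 = c * k * ((Ph Ω τ σ).card - 1) ∧
    (Fintype.card Ω - 1) * m = c ^ 2 * (q * s) * ((Dl Ω τ).card - 1) ∧
    ((q = 4 * k + 1 ∧ s = 2 * k + 1) ∨ (q + 1 = 4 * k ∧ s + 1 = 2 * k)) := by
  obtain ⟨c, k, q, s, h1, h2, h3, h4⟩ := gw4_sub (M := stabilizer G a) (by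
    have := h.i_lt
    have e : Odd ((Fintype.card Ω - 1) * m) := (Nat.odd_iff.2 (by omega)).mul h.odd
    rw [h.cGa, mul_left_comm]
    have := Nat.odd_iff.1 e
    omega) (h.Ga_one ho) h.f4 h.tK.1 h.sK.1
  rw [h.Ga_cen ho, h.cHa, inf_comm, h.cCa] at h2
  rw [h.cGa, inf_comm, h.cCa] at h3
  exact ⟨c, k, q, s, h1, by linarith, by linarith, h4⟩

section X

variable {z : G} (z1 : z ∈ Cen (St G a b)) (z2 : z * z = 1) (z3 : z • a = b)
include z1 z2 z3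

theorem zC : z ∈ Cen1 τ := c1.2 (cen.1 z1 τ h.tK)

theorem zS : z ∈ Cen1 σ := c1.2 (cen.1 z1 σ h.sK)

theorem z_not : z ∉ St G a b := fun e => h.ne (e.1.symm.trans z3)

theorem oz : orderOf z = 2 := orderOf_eq_two' z2 fun e => h.z_not z1 z2 z3 (e ▸ one_mem _)

theorem zk_sq {k : G} (hk : k ∈ St G a b) : z * k * (z * k) = k * k := by
  rw [mul_assoc, ← mul_assoc k, ← cen.1 z1 k hk, ← mul_assoc, ← mul_assoc, z2, one_mul]

theorem swap_conj {y : G} (hy : y ∈ Cen1 τ) (t : Tr (Dl Ω τ) (y * y)) (t0 : ¬ Tr (Dl Ω τ) y) :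
    ∃ g ∈ Cen1 τ, ∃ v ∈ V4 τ σ, g * y * g⁻¹ = z * v := by
  obtain ⟨x, hx, ne⟩ : ∃ x ∈ Dl Ω τ, y • x ≠ x := by simpa [Tr] using t0
  obtain ⟨g, hg, e1, e2⟩ := h.tC.two x hx _ (h.tC.mem y hy x hx) a h.aD b h.bD ne.symm h.ne
  have t' := t.conj (h.tC.mem _ (inv_mem hg))
  rw [← conj_mul] at t'
  refine ⟨g, hg, z⁻¹ * (g * y * g⁻¹), h.mem_V (mul_mem (inv_mem (h.zC z1 z2 z3))
    (mul_mem (mul_mem hg hy) (inv_mem hg))) (h.swap_K (z2 ▸ one_mem _) ⟨t' a h.aD, t' b h.bD⟩ z3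
    (by rw [← e1, ← e2]; simp [mul_smul])), by simp⟩

theorem X_sq {y : G} (hy : y ∈ Cen1 τ) (t : Tr (Dl Ω τ) (y * y)) : y * y = 1 := by
  by_cases t0 : Tr (Dl Ω τ) y
  · exact h.sq_fix h.aD h.bD h.ne hy ⟨t0 a h.aD, t0 b h.bD⟩
  obtain ⟨g, -, v, hv, e⟩ := h.swap_conj z1 z2 z3 hy t t0
  have := h.zk_sq z1 z2 z3 (h.VK hv)
  rw [← e, h.sq_V hv, conj_mul] at this
  simpa using this

theorem X_swap {t : G} (t2 : t * t = 1) (t3 : t • a = b) :
    t = z ∨ ∃ k ∈ (DD G Ω).filter (· ∈ St G a b), t = z * k := by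
  have h1 := h.swap_K (z2 ▸ one_mem _) (t2 ▸ one_mem _) z3 t3
  refine (em _).imp_right fun e => ⟨z⁻¹ * t, mem_filter.2 ⟨mem_DD.2 ⟨orderOf_eq_two' ?_
    fun e' => e (inv_mul_eq_one.1 e').symm, a, b, h.ne, h1⟩, h1⟩, by simp⟩
  rw [← h.zk_sq z1 z2 z3 h1]; simpa using t2

theorem zk_conj {k : G} (hk : k ∈ (DD G Ω).filter (· ∈ St G a b)) :
    ∃ l, l * (z * τ) * l⁻¹ = z * k := by
  obtain ⟨k1, k2⟩ := mem_filter.1 hk
  obtain ⟨l, hl, e⟩ := h.K.one τ h.tK k k2 h.f4.ht (mem_DD.1 k1).1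
  exact ⟨l, by rw [← e, ← conj_mul, ← cen.1 z1 l hl, mul_inv_cancel_right]⟩

theorem zt_D {t : G} (ht : t ∈ DD G Ω) (t3 : t • a = b) (ne : t ≠ z) : z * τ ∈ DD G Ω := by
  obtain ⟨k, hk, rfl⟩ := (h.X_swap z1 z2 z3 (ii (mem_DD.1 ht).1) t3).resolve_left ne
  obtain ⟨l, e⟩ := h.zk_conj z1 z2 z3 hk
  exact DD_conj' (e ▸ ht)

theorem d_erase (h1 : z * τ ∈ DD G Ω) : (((DD G Ω).filter fun e => e • a = b).erase z).card = m := by
  rw [← h.cK, ← card_image_of_injective ((DD G Ω).filter (· ∈ St G a b)) (mul_right_injective z)]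
  congr 1
  ext t
  simp only [mem_erase, mem_image]
  refine ⟨fun ⟨e, ht⟩ => ?_, ?_⟩
  · obtain ⟨t1, t2⟩ := mem_filter.1 ht
    obtain ⟨k, hk, e⟩ := (h.X_swap z1 z2 z3 (ii (mem_DD.1 t1).1) t2).resolve_left e
    exact ⟨k, hk, e.symm⟩
  · rintro ⟨k, hk, rfl⟩
    obtain ⟨l, e⟩ := h.zk_conj z1 z2 z3 hk
    obtain ⟨k1, k2⟩ := mem_filter.1 hk
    exact ⟨fun e => ine (mem_DD.1 k1).1 (by simpa using e),
      mem_filter.2 ⟨e ▸ DD_conj h1 l, by rw [mul_smul, k2.1, z3]⟩⟩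

theorem s_sub {e : G} (he : e ∈ (EE Ω τ).filter fun e => e • a = b) :
    e = z ∨ e = z * τ ∨ e = z * σ ∨ e = z * (τ * σ) := by
  obtain ⟨h1, h2⟩ := mem_filter.1 he
  exact h.coset (h.zC z1 z2 z3) (mem_EE.1 h1).1 (z2 ▸ one_mem _)
    (ii (mem_DD.1 (h.E_D h1)).1 ▸ one_mem _) z3 h2

section X1

variable (z0 : z ∉ DD G Ω)
include z0

theorem X1_n : Fintype.card Ω = (Dl Ω τ).card ^ 2 := by
  obtain ⟨g, h1⟩ := h.to_swap (ine h.f4.ht)
  have h2 := h.d_erase z1 z2 z3 (h.zt_D z1 z2 z3 (DD_conj h.tD g) h1 fun e =>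
    z0 (e ▸ DD_conj h.tD g))
  rw [erase_eq_of_notMem fun e => z0 (mem_filter.1 e).1] at h2
  have h3 := h.N1
  rw [h2] at h3
  have h4 := Nat.eq_of_mul_eq_mul_left h.odd.pos h3
  have := h.i_lt
  obtain ⟨i, hi⟩ : ∃ i, (Dl Ω τ).card = i + 1 := ⟨(Dl Ω τ).card - 1, by
    have := h.j2; have := h.ji; omega⟩
  rw [hi] at h4 this ⊢
  rw [Nat.add_sub_cancel] at h4
  rw [← Nat.sub_add_cancel this.le, h4]; ring

theorem X1_ij : (Dl Ω τ).card = (Ph Ω τ σ).card ∨ (Dl Ω τ).card = (Ph Ω τ σ).card ^ 2 := by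
  have : ((EE Ω τ).filter fun e => e • a = b).card ≤ 2 := by
    refine (card_le_card fun e he => ?_).trans (card_le_two (a := z * σ) (b := z * (τ * σ)))
    have h1 := (mem_filter.1 he).1
    rcases h.s_sub z1 z2 z3 he with rfl | rfl | rfl | rfl
    · exact absurd (h.E_D h1) z0
    · have := h.E_D (h.E_mul h1)
      rw [c1.1 (h.zC z1 z2 z3), ← mul_assoc, ii h.f4.ht, one_mul] at this
      exact absurd this z0
    · simp
    · simp
  have := h.ij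
  omega

theorem J_uniq {u v : G} (ou : orderOf u = 2) (ov : orderOf v = 2) (u0 : u ∉ DD G Ω)
    (v0 : v ∉ DD G Ω) {x : Ω} (e : u • x = v • x) (ne : u • x ≠ x) : u = v := by
  obtain ⟨g, e1, e2⟩ := h.two ne.symm h.ne
  have k : ∀ u : G, orderOf u = 2 → u ∉ DD G Ω → g • u • x = b → g * u * g⁻¹ = z := fun u ou u0 e3 => by
    refine (h.X_swap z1 z2 z3 (ii (iconj ou g)) (by rw [← e1, ← e3]; simp [mul_smul])).resolve_right ?_
    rintro ⟨k, hk, e4⟩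
    obtain ⟨l, e5⟩ := h.zk_conj z1 z2 z3 hk
    obtain ⟨c, h1⟩ := h.to_swap (ine h.f4.ht)
    have := h.zt_D z1 z2 z3 (DD_conj h.tD c) h1 fun e => z0 (e ▸ DD_conj h.tD c)
    exact u0 (DD_conj' (e4 ▸ e5 ▸ DD_conj this l))
  simpa using (k u ou u0 e2).trans (k v ov v0 (e ▸ e2)).symm

theorem X1_odd (ho : Fintype.card Ω % 2 = 1) : IsIsolated z := by
  set J := univ.filter fun u : G => orderOf u = 2 ∧ u ∉ DD G Ω with hJ
  have mJ : ∀ {u}, u ∈ J ↔ orderOf u = 2 ∧ u ∉ DD G Ω := by simp [hJ]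
  have k : ∀ u ∈ J, ∀ g ∈ (⊤ : Subgroup G), g * u * g⁻¹ ∈ J := fun u hu g _ =>
    mJ.2 ⟨iconj (mJ.1 hu).1 g, fun e => (mJ.1 hu).2 (DD_conj' e)⟩
  have f : ∀ u ∈ J, (Fx (univ : Finset Ω) u).card = 1 := fun u hu => by
    have h1 := parity (X := (univ : Finset Ω)) (g := u) (fun _ _ => mem_univ _)
      fun x _ => by rw [← mul_smul, ii (mJ.1 hu).1, one_smul]
    have h2 := (mJ.1 hu).2
    simp only [DD, mem_filter, mem_univ, true_and, (mJ.1 hu).1] at h2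
    rw [card_univ] at h1
    omega
  have zJ := mJ.2 ⟨h.oz z1 z2 z3, z0⟩
  obtain ⟨x, hx⟩ := card_eq_one.1 (f z zJ)
  have e1 := h.tt.cnt_move (fun _ _ => trivial) k f (mem_univ a) (mem_univ b) h.ne
  have e2 := h.tt.cnt1 k f (mem_univ x)
  have e3 : (J.filter fun e => e • a = b).card ≤ 1 := card_le_one.2 fun u hu v hv => by
    obtain ⟨u1, u2⟩ := mem_filter.1 hu
    obtain ⟨v1, v2⟩ := mem_filter.1 hv
    exact h.J_uniq z1 z2 z3 z0 (mJ.1 u1).1 (mJ.1 v1).1 (mJ.1 u1).2 (mJ.1 v1).2 (u2.trans v2.symm)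
      (u2 ▸ h.ne.symm)
  have e4 : (J.filter fun e => e • x = x).card ≤ 1 := by
    have := h.j2
    have := h.ji
    have := h.i_lt
    rw [mul_one] at e2
    rw [e2, mul_right_comm, card_univ] at e1
    rw [Nat.eq_of_mul_eq_mul_left (Nat.mul_pos (by omega) (by omega)) e1]
    exact e3
  intro g hg
  have x1 := (mem_Fx.1 (hx ▸ mem_singleton_self x)).2
  refine card_le_one.1 e4 _ (mem_filter.2 ⟨k z zJ g trivial, mem_singleton.1 (hx ▸ mem_Fx.2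
    ⟨mem_univ _, ?_⟩)⟩) _ (mem_filter.2 ⟨zJ, x1⟩)
  rw [← mul_smul, hg.eq, mul_smul, x1]

theorem X1_two (ho : Fintype.card Ω % 2 = 0) {p : ℕ} (hp : p.Prime) (hd : p ∣ Fintype.card Ω) :
    p = 2 := by
  refine h.sH.not_dvd (by have := h.par_n; have := h.par_i; omega) h.aP h.bP h.ne h.h4 hp ?_
  rw [h.X1_n z1 z2 z3 z0] at hd
  have := hp.dvd_of_dvd_pow hd
  rcases h.X1_ij z1 z2 z3 z0 with e | e <;> rw [e] at this
  exacts [this, hp.dvd_of_dvd_pow this]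

theorem X1_even (ho : Fintype.card Ω % 2 = 0) : ∃ N : Subgroup G, RG Ω N := by
  have oz := h.oz z1 z2 z3
  have : z ∈ pCore 2 G := by
    by_contra e
    obtain ⟨u, h1, h2, h3⟩ := H9.exists_inverted_of_not_mem_pCore z2 e
    obtain ⟨g, -, h4⟩ := H9.exists_conj_eq_mul h2 h3 (mem_zpowers u)
    haveI := Fact.mk h1
    have h5 := (isPGroup_zpowers_of_orderOf (x := u) rfl).nonempty_fixed_point_of_prime_not_dvd_card
      Ω fun e => by
        rw [Nat.card_eq_fintype_card] at e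
        rw [h.X1_two z1 z2 z3 z0 ho h1 e] at h2
        exact absurd h2 (by decide)
    obtain ⟨x, hx⟩ := h5
    have h6 : u • x = x := hx ⟨u, mem_zpowers u⟩
    have h7 : z • z • x ≠ z • x := fun e => by
      have h1 := parity (X := (univ : Finset Ω)) (g := z) (fun _ _ => mem_univ _)
        fun x _ => by rw [← mul_smul, z2, one_smul]
      simp only [DD, mem_filter, mem_univ, true_and, oz] at z0
      have := card_pos.2 ⟨_, mem_Fx.2 ⟨mem_univ _, e⟩⟩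
      rw [card_univ] at h1
      omega
    have h8 := h.J_uniq z1 z2 z3 z0 oz (iconj oz g) z0 (fun e => z0 (DD_conj' e)) (x := z • x) (by
      rw [h4, mul_smul u, ← mul_smul z, z2, one_smul, h6]) h7
    rw [h4, eq_comm, mul_eq_right] at h8
    rw [h8, orderOf_one] at h1
    exact Nat.not_prime_one h1
  obtain ⟨N, -, hN⟩ := ex_RG h.tt (Q := pCore 2 G) inferInstance
    (isSolvable_of_isPGroup (isPGroup_pCore 2 G)) fun e => ine oz (by simpa [e] using this)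
  exact ⟨N, hN⟩

theorem X1_num (hm : m = 3) (ho : Fintype.card Ω % 2 = 0) :
    (Dl Ω τ).card = 4 ∧ (Ph Ω τ σ).card = 4 := by
  obtain ⟨c, k, q, s, h1, h2, h3, h4⟩ := h.even_gw ho
  have h5 := h.j2
  obtain ⟨j, hj⟩ : ∃ j, (Ph Ω τ σ).card = j + 2 := ⟨(Ph Ω τ σ).card - 2, by omega⟩
  rw [h.X1_n z1 z2 z3 z0, hm] at h3
  rcases h.X1_ij z1 z2 z3 z0 with e | e <;> rw [e, hj] at h2 h3 ⊢
  · rw [show j + 2 - 1 = j + 1 from rfl] at h2 h3
    have e1 : c * k = 1 := Nat.eq_of_mul_eq_mul_right (Nat.succ_pos j) (by linarith)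
    obtain rfl := Nat.eq_one_of_mul_eq_one_right e1
    obtain rfl := Nat.eq_one_of_mul_eq_one_left e1
    rw [show (j + 2) ^ 2 - 1 = (j + 3) * (j + 1) from Nat.sub_eq_of_eq_add (by ring)] at h3
    have e2 : (j + 3) * 3 = q * s := Nat.eq_of_mul_eq_mul_right (Nat.succ_pos j) (by linarith)
    rcases h4 with ⟨rfl, rfl⟩ | ⟨h6, h7⟩
    · omega
    · rw [show q = 3 by omega, show s = 1 by omega] at e2; omega
  · exfalso
    rw [show (j + 2) ^ 2 - 1 = (j + 3) * (j + 1) from Nat.sub_eq_of_eq_add (by ring)] at h2 h3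
    rw [show ((j + 2) ^ 2) ^ 2 - 1 = ((j + 2) ^ 2 + 1) * ((j + 3) * (j + 1)) from
      Nat.sub_eq_of_eq_add (by ring)] at h3
    have e1 : j + 3 = c * k := Nat.eq_of_mul_eq_mul_right (Nat.succ_pos j) h2
    have e2 : ((j + 2) ^ 2 + 1) * 3 = c ^ 2 * (q * s) :=
      Nat.eq_of_mul_eq_mul_right (show 0 < (j + 3) * (j + 1) by positivity) (by linarith)
    have := numA h1 (by omega) h4
    rw [← e1, ← e2] at this
    nlinarith

end X1

end X

end Cf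

end T2
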