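import Cfsg.Agent.T2.TX

/-! The case of a central involution in the setwise stabiliser, part 2. -/

set_option autoImplicit false
set_option linter.unusedVariables false
set_option linter.unusedSectionVars false
set_option linter.style.haveILetI false

namespace T2

open Cfsg Subgroup FT H4 H5 GW MulAction Finset
open scoped Classical

variable {G : Type*} [Group G] [Fintype G] {Ω : Type*} [Fintype Ω] [MulAction G Ω]
  [FaithfulSMul G Ω]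

namespace Cf

variable {m d : ℕ} {a b : Ω} {τ σ : G} (h : Cf m d a b τ σ)
include h

theorem sC (e : (Dl Ω τ).card = (Ph Ω τ σ).card) : Sh (Cen1 τ) (Dl Ω τ) := by
  have e' : Ph Ω τ σ = Dl Ω τ := eq_of_subset_of_card_le (Fx_sub _ _) e.le
  exact ⟨h.tC, fun g hg x hx y hy ne e1 e2 => e' ▸ h.V_tr
    (h.V_eq (e' ▸ hx) (e' ▸ hy) ne ▸ ⟨⟨e1, e2⟩, hg⟩)⟩

theorem trC {g : G} (hg : g ∈ Cen1 τ) (t : Tr (Dl Ω τ) g) : g ∈ V4 τ σ :=
  h.mem_V hg ⟨t a h.aD, t b h.bD⟩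

variable {z : G} (z1 : z ∈ Cen (St G a b)) (z2 : z * z = 1) (z3 : z • a = b) (z0 : z ∈ DD G Ω)
include z1 z2 z3 z0

theorem X2_a_odd (e : (Dl Ω τ).card = (Ph Ω τ σ).card) (ho : (Dl Ω τ).card % 2 = 1) : False := by
  have s := h.sC e
  obtain ⟨g, hg⟩ := h.D_conj z0
  obtain ⟨ρ, ρ1, ρ2⟩ := h.rot
  have c : ∀ k ∈ St G a b, g * k * g⁻¹ ∈ Cen1 τ := fun k hk => by
    rw [← hg, c1, conj_mul, conj_mul, cen.1 z1 k hk]
  have f := h.f4.conj g
  have r : Rot (g * τ * g⁻¹) (g * σ * g⁻¹) (g * ρ * g⁻¹) :=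
    ⟨by rw [← ρ2.h1]; group, by rw [show g * τ * g⁻¹ * (g * σ * g⁻¹) = g * (τ * σ) * g⁻¹ from conj_mul, ← ρ2.h2]; group⟩
  have n : τ ∉ V4 (g * τ * g⁻¹) (g * σ * g⁻¹) := fun e => by
    rw [← conj_V, mem_conjS] at e
    nth_rewrite 2 [← hg] at e
    exact h.z_not z1 z2 z3 (by simpa [mul_assoc] using h.VK e)
  have c1 := c τ h.tK
  have c2 := c σ h.sK
  have c3 := h.tC.mem _ (inv_mem (c ρ ρ1))
  generalize g * τ * g⁻¹ = u at f r n c1
  generalize g * σ * g⁻¹ = v at f r n c2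
  have k : ¬ Tr (Dl Ω τ) u := fun t => n ((eq_of_le_of_card_ge (V_le (h.trC c1 t)
    (h.trC c2 (r.h1 ▸ t.conj c3))) (by rw [f.card_V, h.f4.card_V])).ge (t_V τ σ))
  have k' : ¬ Tr (Dl Ω τ) (u * v) := fun t => k (r.h3 f ▸ t.conj c3)
  have o : Tr (Dl Ω τ) (1 : G) := fun x _ => one_smul _ x
  obtain ⟨x, hx, e1, e2⟩ := s.fix_odd ho c1 (ii f.ht ▸ o) k
  have := s.uniq c1 c2 (ii f.ht ▸ o) (ii f.ha ▸ o) k (fun t => k' (r.h2 ▸ t.conj c3)) hx e1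
    (e2 _ (s.mem v c2 x hx) (by rw [← mul_smul, f.c, mul_smul, e1]))
  rw [iinv f.ht] at this
  exact k' this

theorem X2_a_even (e : (Dl Ω τ).card = (Ph Ω τ σ).card) (ho : (Dl Ω τ).card % 2 = 0) : False := by
  have s := h.sC e
  have o : Tr (Dl Ω τ) (1 : G) := fun x _ => one_smul _ x
  have cm : ∀ t ∈ Cen1 τ, ∀ u ∈ Cen1 τ, orderOf t = 2 → orderOf u = 2 → Commute t u :=
    fun t ht u hu t2 u2 => by
      have := h.X_sq z1 z2 z3 (mul_mem ht hu) (s.sq_mul ho ht hu (ii t2 ▸ o) (ii u2 ▸ o))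
      rw [← eq_inv_iff_mul_eq_one, mul_inv_rev, iinv t2, iinv u2] at this
      exact this
  have cm' : ∀ y ∈ DD G Ω, ∀ t u : G, orderOf t = 2 → orderOf u = 2 → Commute y t → Commute y u →
      Commute t u := fun y hy t u t2 u2 h1 h2 => by
    obtain ⟨g, hg⟩ := h.D_conj hy
    have := cm _ (c1c.2 (hg ▸ (h1.conj g).symm)) _ (c1c.2 (hg ▸ (h2.conj g).symm)) (iconj t2 g)
      (iconj u2 g)
    simpa [mul_assoc] using this.conj g⁻¹
  have kc : ∀ k ∈ (DD G Ω).filter (· ∈ St G a b), k ∈ Cen1 τ := fun k hk =>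
    c1c.2 (cm' z z0 k τ (mem_DD.1 (mem_filter.1 hk).1).1 h.f4.ht (cen.1 z1 k (mem_filter.1 hk).2)
      (cen.1 z1 τ h.tK))
  have e3 : (DD G Ω).filter (· ∈ St G a b) = {τ, σ, τ * σ} := by
    ext k
    simp only [mem_insert, mem_singleton]
    refine ⟨fun hk => (h.f4.mem_V.1 (h.mem_V (kc k hk) (mem_filter.1 hk).2)).resolve_left
      (ine (mem_DD.1 (mem_filter.1 hk).1).1), ?_⟩
    rintro (rfl | rfl | rfl)
    · exact mem_filter.2 ⟨h.tD, h.tK⟩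
    · exact mem_filter.2 ⟨mem_DD.2 ⟨h.f4.ha, a, b, h.ne, h.sK⟩, h.sK⟩
    · exact mem_filter.2 ⟨mem_DD.2 ⟨h.f4.hta, a, b, h.ne, mul_mem h.tK h.sK⟩, mul_mem h.tK h.sK⟩
  have hm : m = 3 := by
    rw [← h.cK, e3]
    exact card_eq_three.2 ⟨_, _, _, h.f4.ne.symm, h.f4.mul.ne.symm, h.f4.mul'.ne.symm, rfl⟩
  set E := (DD G Ω).filter fun e => e ∈ Cen1 τ ∧ e ∉ St G a b with hE
  have tr : ∀ {e}, e ∈ Cen1 τ → (Tr (Dl Ω τ) e ↔ e ∈ St G a b) := s.ker_eq h.aD h.bD h.ne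
  have e4 := h.tC.cnt_move (E := E) (f := 0) (fun e he => (mem_filter.1 he).2.1) (fun e he g hg => by
      obtain ⟨h1, h2, h3⟩ := mem_filter.1 he
      have h4 := mul_mem (mul_mem hg h2) (inv_mem hg)
      refine mem_filter.2 ⟨DD_conj h1 g, h4, fun t => h3 ((tr h2).1 ?_)⟩
      simpa [mul_assoc] using ((tr h4).2 t).conj (c := g⁻¹) (h.tC.mem _ (inv_mem (inv_mem hg))))
    (fun e he => by
      obtain ⟨h1, h2, h3⟩ := mem_filter.1 he
      exact card_eq_zero.2 (s.fix_even ho h2 (ii (mem_DD.1 h1).1 ▸ o) fun t => h3 ((tr h2).1 t)))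
    h.aD h.bD h.ne
  have e5 : (E.filter fun e => e • a = b) = (DD G Ω).filter fun e => e • a = b := by
    ext t
    simp only [hE, mem_filter]
    refine ⟨fun ⟨h1, h2⟩ => ⟨h1.1, h2⟩, fun ⟨h1, h2⟩ => ⟨⟨h1, ?_, fun t => h.ne (t.1.symm.trans h2)⟩, h2⟩⟩
    rcases h.X_swap z1 z2 z3 (ii (mem_DD.1 h1).1) h2 with rfl | ⟨k, hk, rfl⟩
    exacts [h.zC z1 z2 z3, mul_mem (h.zC z1 z2 z3) (kc k hk)]
  have e6 : ((DD G Ω).filter (Commute τ)).card = E.card + m := by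
    rw [← h.cK, ← card_union_of_disjoint (disjoint_left.2 fun t h1 h2 =>
      (mem_filter.1 h1).2.2 (mem_filter.1 h2).2)]
    congr 1
    ext t
    simp only [mem_union, hE]
    refine ⟨fun ht => ?_, ?_⟩
    · obtain ⟨h1, h2⟩ := mem_filter.1 ht
      by_cases h3 : t ∈ St G a b
      exacts [Or.inr (mem_filter.2 ⟨h1, h3⟩), Or.inl (mem_filter.2 ⟨h1, c1c.2 h2.symm, h3⟩)]
    · rintro (ht | ht)
      exacts [mem_filter.2 ⟨(mem_filter.1 ht).1, (c1c.1 (mem_filter.1 ht).2.1).symm⟩,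
        mem_filter.2 ⟨(mem_filter.1 ht).1, (c1c.1 (kc t ht)).symm⟩]
  obtain ⟨k, hk⟩ := dvd_card_of_equiv (DD G Ω) Commute (E.card + m) (fun x _ => Commute.refl x)
    (fun _ _ _ _ e => e.symm) (fun x hx y hy u hu h1 h2 => cm' y hy x u (mem_DD.1 hx).1
      (mem_DD.1 hu).1 h1.symm h2) fun t ht => by
    obtain ⟨g, hg⟩ := h.D_conj ht
    rw [← e6]
    exact h.tt.conj_card (fun e he c _ => DD_conj he c) (mem_top g) _ _ fun e => by
      rw [← hg]; exact (Commute.conj_iff g).symm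
  have e7 := h.N1
  have e8 := h.cD
  have e9 : ¬ 3 ∣ (Dl Ω τ).card := fun e =>
    absurd (s.not_dvd ho h.aD h.bD h.ne h.c4 Nat.prime_three e) (by norm_num)
  have e10 : ((DD G Ω).filter fun e => e • a = b).card = 1 ∨
      ((DD G Ω).filter fun e => e • a = b).card = 4 := by
    have h1 := card_erase_add_one (mem_filter.2 ⟨z0, z3⟩ : z ∈ (DD G Ω).filter fun e => e • a = b)
    by_cases h2 : z * τ ∈ DD G Ω
    · rw [h.d_erase z1 z2 z3 h2] at h1; omega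
    · rw [eq_empty_of_forall_notMem (s := erase _ z) fun t ht => h2 (h.zt_D z1 z2 z3
        (mem_filter.1 (mem_erase.1 ht).2).1 (mem_filter.1 (mem_erase.1 ht).2).2 (mem_erase.1 ht).1)]
        at h1
      exact Or.inl h1.symm
  rw [e5] at e4
  rw [hk] at e8
  have := h.j2
  have := h.ji
  obtain ⟨i, hi⟩ : ∃ i, (Dl Ω τ).card = i + 2 := ⟨(Dl Ω τ).card - 2, by omega⟩
  obtain ⟨n, hn⟩ := Nat.exists_eq_add_of_lt h.i_lt
  rw [hn] at e7 e8
  rw [hi] at e4 e7 e8 e9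
  rw [hm] at e7 e8
  generalize ((DD G Ω).filter fun e => e • a = b).card = r at e4 e7 e10
  generalize E.card = ε at e4 e8
  rw [show i + 2 + n + 1 - (i + 2) = n + 1 by omega] at e7
  simp only [Nat.sub_zero, Nat.add_succ_sub_one] at e4 e7 e8
  obtain rfl : ε = (i + 1) * r := Nat.eq_of_mul_eq_mul_left (show 0 < i + 2 by omega) (by linarith)
  have f1 : k * (i + 1) = i + 2 + n := Nat.eq_of_mul_eq_mul_left
    (show 0 < ((i + 1) * r + 3) * (i + 2) by positivity) (by nlinarith)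
  have f2 : 3 * k = 3 + r * (i + 2) := Nat.eq_of_mul_eq_mul_left (Nat.succ_pos i) (by nlinarith)
  rcases e10 with rfl | rfl <;> omega

theorem X2_zt (e : (Dl Ω τ).card ≠ (Ph Ω τ σ).card) : z * τ ∈ DD G Ω := by
  obtain ⟨t, ht⟩ : ((EE Ω τ).filter fun e => e • a = b).Nonempty :=
    card_pos.1 (by have := h.ij; omega)
  obtain ⟨t1, t2⟩ := mem_filter.1 ht
  by_cases e1 : t = z
  · have := h.E_D (h.E_mul t1)
    rwa [e1, ← c1.1 (h.zC z1 z2 z3)] at this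
  · exact h.zt_D z1 z2 z3 (h.E_D t1) t2 e1

theorem X2_all (e : (Dl Ω τ).card ≠ (Ph Ω τ σ).card) {t : G} (ht : orderOf t = 2) :
    t ∈ DD G Ω := by
  obtain ⟨g, hg⟩ := h.to_swap (ine ht)
  refine DD_conj' (c := g) ?_
  rcases h.X_swap z1 z2 z3 (ii (iconj ht g)) hg with e1 | ⟨k, hk, e1⟩
  · exact e1 ▸ z0
  · obtain ⟨l, e2⟩ := h.zk_conj z1 z2 z3 hk
    exact e1 ▸ e2 ▸ DD_conj (h.X2_zt z1 z2 z3 z0 e) l

theorem X2_sq (e : (Dl Ω τ).card ≠ (Ph Ω τ σ).card) {S : Subgroup G} (hS : IsPGroup 2 S) {y : G}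
    (hy : y ∈ S) : y * y = 1 := by
  have k : ∀ y : G, y * y * (y * y) = 1 → y * y = 1 := fun y h1 => by
    by_contra h2
    obtain ⟨g, hg⟩ := h.D_conj (h.X2_all z1 z2 z3 z0 e (orderOf_eq_two' h1 h2))
    rw [← conj_mul] at hg
    have := h.X_sq z1 z2 z3 (y := g * y * g⁻¹) (c1.2 (by rw [← hg, mul_assoc (g * y * g⁻¹)]))
      fun x hx => by rw [hg, mem_Dl.1 hx]
    exact ine h.f4.ht (hg.symm.trans this)
  obtain ⟨n, hn⟩ := isPGroup_iff_forall.1 hS y hy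
  clear hy
  induction n generalizing y with
  | zero => rw [pow_zero, pow_one] at hn; rw [hn, mul_one]
  | succ n ih => exact k y (ih (by rwa [← pow_two, ← pow_mul, ← pow_succ']))

theorem X2_syl (e : (Dl Ω τ).card ≠ (Ph Ω τ σ).card) : ∃ S, IsSylowOf 2 S (Cen1 τ) ∧
    S ≤ Cen1 σ ∧ S ≤ Cen1 z ∧ ∀ y ∈ S, y * y = 1 := by
  obtain ⟨S, hS, h1⟩ := exists_isSylowOf_ge (q := 2) (Q := V4 τ σ ⊔ zpowers z) (K := Cen1 τ)
    (h.f4.two_V.to_sup_of_normal_left' (two_zp (h.oz z1 z2 z3))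
      (zpowers_le.2 (mcnor (cen_V τ σ ▸ ⟨h.zC z1 z2 z3, h.zS z1 z2 z3⟩))))
    (sup_le h.VC (zpowers_le.2 (h.zC z1 z2 z3)))
  have k := fun y => h.X2_sq z1 z2 z3 z0 e hS.2 (y := y)
  have c : ∀ u ∈ S, S ≤ Cen1 u := fun u hu y hy => c1.2 (by
    have := k _ (mul_mem hy hu)
    rwa [← eq_inv_iff_mul_eq_one, mul_inv_rev, inv_eq_of_mul_eq_one_right (k y hy),
      inv_eq_of_mul_eq_one_right (k u hu)] at this)
  exact ⟨S, hS, c _ (h1 (mem_sup_left (a_V τ σ))), c _ (h1 (mem_sup_right (mem_zpowers z))), k⟩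

theorem X2_four (e : (Dl Ω τ).card ≠ (Ph Ω τ σ).card) :
    ((EE Ω τ).filter fun e => e • a = b).card = 4 ∧
      (Dl Ω τ).card = (Ph Ω τ σ).card * (2 * (Ph Ω τ σ).card - 1) := by
  have h1 : ((EE Ω τ).filter fun e => e • a = b).card ≤ 4 :=
    (card_le_card fun e he => by simpa using h.s_sub z1 z2 z3 he).trans
      (card_le_four (a := z) (b := z * τ) (c := z * σ) (d := z * (τ * σ)))
  rcases h.ij with h2 | ⟨-, h2⟩ | h2 | h2
  · exact absurd h2.2 e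
  · exfalso
    obtain ⟨S, hS, s1, -⟩ := h.X2_syl z1 z2 z3 z0 e
    refine hS.3 (dvd_trans ?_ (relIndex_dvd_of_le_left _ ((le_inf hS.1 s1).trans h.cs_le)))
    have h3 := card_mul_relIndex (inf_le_left : HH τ σ ≤ Cen1 τ)
    rw [h.cH, h.cC, h2] at h3
    obtain ⟨j, hj⟩ : ∃ j, (Ph Ω τ σ).card = j + 2 := ⟨(Ph Ω τ σ).card - 2, by have := h.j2; omega⟩
    rw [hj, show (j + 2) ^ 2 - 1 = (j + 3) * (j + 1) from Nat.sub_eq_of_eq_add (by ring),
      show j + 2 - 1 = j + 1 from rfl] at h3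
    rw [Nat.eq_of_mul_eq_mul_left (show 0 < (j + 2) * (j + 1) * 4 by positivity)
      (h3.trans (by ring : _ = _ * ((j + 2) * (j + 2 + 1))))]
    exact (Nat.even_mul_succ_self _).two_dvd
  · exact h2
  · omega

theorem X2_b_even (hm : m = 3 ∨ m = 15) (e : (Dl Ω τ).card ≠ (Ph Ω τ σ).card)
    (ho : (Ph Ω τ σ).card % 2 = 0) : False := by
  obtain ⟨c, k, q, s, h1, h2, h3, h4⟩ := h.even_gw (by have := h.par_n; have := h.par_i; omega)
  have h5 := h.N1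
  rw [← card_erase_add_one (mem_filter.2 ⟨z0, z3⟩ : z ∈ (DD G Ω).filter fun e => e • a = b),
    h.d_erase z1 z2 z3 (h.X2_zt z1 z2 z3 z0 e)] at h5
  obtain ⟨j, hj⟩ : ∃ j, (Ph Ω τ σ).card = j + 2 := ⟨(Ph Ω τ σ).card - 2, by have := h.j2; omega⟩
  obtain ⟨n, hn⟩ := Nat.exists_eq_add_of_lt h.i_lt
  have h6 := (h.X2_four z1 z2 z3 z0 e).2
  rw [hj, show 2 * (j + 2) - 1 = 2 * j + 3 by omega] at h6
  have h7 : (Dl Ω τ).card - 1 = (2 * j + 5) * (j + 1) := by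
    rw [h6]; exact Nat.sub_eq_of_eq_add (by ring)
  rw [hn, show (Dl Ω τ).card + n + 1 - (Dl Ω τ).card = n + 1 by omega, h7, h6] at h5
  rw [hn, Nat.add_sub_cancel, h7, h6] at h3
  rw [h7, hj] at h2
  have e1 : 2 * j + 5 = c * k := Nat.eq_of_mul_eq_mul_right (Nat.succ_pos j) h2
  have e2 : (m + 1) * ((j + 2) * (2 * j + 3)) + m = c ^ 2 * (q * s) :=
    Nat.eq_of_mul_eq_mul_right (show 0 < (2 * j + 5) * (j + 1) by positivity) (by nlinarith)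
  rcases hm with rfl | rfl
  · have := numA h1 (by omega) h4
    rw [← e1, ← e2] at this
    nlinarith
  rcases h4 with ⟨rfl, rfl⟩ | ⟨h8, h9⟩
  · have : c ^ 2 * ((4 * k + 1) * (2 * k + 1)) = 8 * (c * k) ^ 2 + 6 * (c * k) * c + c ^ 2 := by ring
    rw [this, ← e1] at e2
    nlinarith
  · have : c ^ 2 * (q * s) + 6 * (c * k) * c = 8 * (c * k) ^ 2 + c ^ 2 := by
      zify at h8 h9 ⊢
      rw [eq_sub_of_add_eq h8, eq_sub_of_add_eq h9]; ring
    rw [← e2, ← e1] at this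
    have h10 : c ≤ 2 * j + 5 := Nat.le_of_dvd (by omega) ⟨k, e1⟩
    by_cases h11 : 5 ≤ c
    · nlinarith
    · obtain rfl | rfl | rfl | rfl : c = 1 ∨ c = 2 ∨ c = 3 ∨ c = 4 := by omega
      all_goals ring_nf at this; omega

theorem X2_b_odd (e : (Dl Ω τ).card ≠ (Ph Ω τ σ).card) (ho : (Ph Ω τ σ).card % 2 = 1) : False := by
  obtain ⟨s4, hi⟩ := h.X2_four z1 z2 z3 z0 e
  obtain ⟨S, hS, s1, s2, s3⟩ := h.X2_syl z1 z2 z3 z0 e
  have zC := h.zC z1 z2 z3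
  have zS := h.zS z1 z2 z3
  have zH : z ∈ HH τ σ := h.cs_le ⟨zC, zS⟩
  have o : Tr (Ph Ω τ σ) (1 : G) := fun x _ => one_smul _ x
  have zt : ¬ Tr (Ph Ω τ σ) z := fun t => h.ne ((t a h.aP).symm.trans z3)
  obtain ⟨x, hx, x1, x2⟩ := h.sH.fix_odd ho zH (z2 ▸ o) zt
  have fx : ∀ g ∈ HH τ σ, g * z * g⁻¹ = z ∨ g * z * g⁻¹ = z * τ → g • x = x := fun g hg e => by
    refine x2 _ (h.sH.mem g hg x hx) ?_
    have e1 : (g * z * g⁻¹) • g • x = g • x := by simp [mul_smul, x1]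
    rcases e with e | e <;> rw [e] at e1
    · exact e1
    · rwa [mul_smul, (mem_Ph.1 (h.sH.mem g hg x hx)).1] at e1
  have c16 : ¬ 16 ∣ Nat.card (Cen1 τ) := by
    have h1 : S ≤ V4 τ σ ⊔ zpowers z := fun y hy => by
      have yH := h.cs_le ⟨hS.1 hy, s1 hy⟩
      by_cases t : Tr (Ph Ω τ σ) y
      · exact mem_sup_left (h.tr_V yH.1 t)
      · have := h.tr_V (mul_mem (inv_mem zC) yH.1) (h.sH.uniq zH yH (z2 ▸ o) (s3 y hy ▸ o) zt t hx x1
          (fx y yH (Or.inl (c1'.1 (s2 hy)))))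
        simpa using mul_mem (mem_sup_right (mem_zpowers z)) (mem_sup_left this)
    have h2 := (card_dvd_of_le h1).trans (card_sup_dvd (zpowers_le.2 zH.2))
    rw [h.f4.card_V, Nat.card_zpowers, h.oz z1 z2 z3] at h2
    rw [← card_mul_relIndex hS.1]
    intro h3
    have h4 := h3.trans (Nat.mul_dvd_mul_right h2 _)
    have := hS.3
    omega
  have zE : ∀ v ∈ V4 τ σ, z * v ∈ EE Ω τ := fun v hv => by
    have h1 : ((EE Ω τ).filter fun e => e • a = b) = {z, z * τ, z * σ, z * (τ * σ)} :=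
      eq_of_subset_of_card_le (fun e he => by simpa using h.s_sub z1 z2 z3 he)
        (s4 ▸ card_le_four)
    refine (mem_filter.1 (h1 ▸ ?_ : z * v ∈ (EE Ω τ).filter fun e => e • a = b)).1
    rcases h.f4.mem_V.1 hv with rfl | rfl | rfl | rfl <;> simp
  obtain ⟨Q, _, _, f, hf, hk⟩ := exists_hom_ker_eq (L := Cen1 τ) (M := zpowers τ) (nzp le_rfl)
  have ker : ∀ c : Cen1 τ, f c = 1 ↔ c.1 = 1 ∨ c.1 = τ := fun c => by
    rw [← MonoidHom.mem_ker, hk, mem_subgroupOf, H9.mem_zpowers_two h.f4.ht]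
  have eq : ∀ c c' : Cen1 τ, f c = f c' ↔ c.1 = c'.1 ∨ c.1 = c'.1 * τ := fun c c' => by
    rw [← mul_one (f c'), ← inv_mul_eq_iff_eq_mul, ← map_inv, ← map_mul, ker, Subgroup.coe_mul,
      Subgroup.coe_inv, inv_mul_eq_one, inv_mul_eq_iff_eq_mul, eq_comm]
  have cen : ∀ c c' : Cen1 τ, f c ∈ Cen1 (f c') ↔ c.1 * c'.1 * c.1⁻¹ = c'.1 ∨
      c.1 * c'.1 * c.1⁻¹ = c'.1 * τ := fun c c' => by
    rw [c1', ← map_inv, ← map_mul, ← map_mul, eq]; rfl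
  have od : ∀ {c} (hc : c ∈ EE Ω τ), orderOf (f ⟨c, (mem_EE.1 hc).1⟩) = 2 := fun {c} hc =>
    orderOf_eq_two' (by rw [← map_mul, ker]; exact Or.inl (ii (mem_DD.1 (h.E_D hc)).1)) fun e => by
      obtain ⟨-, h1, h2, -⟩ := mem_EE.1 hc
      exact ((ker _).1 e).elim h1 h2
  have sE : σ ∈ EE Ω τ := mem_EE.2 ⟨h.f4.aH, ine h.f4.ha, h.f4.ne, a, h.aD, b, h.bD, h.ne, h.sK⟩
  have F : F4 (f ⟨σ, h.f4.aH⟩) (f ⟨z, zC⟩) := ⟨od sE, od (by simpa using zE 1 (one_mem _)), by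
    rw [← map_mul, ← map_mul]; exact congrArg f (Subtype.ext (c1.1 zS).symm), fun e =>
      h.z_not z1 z2 z3 (((eq _ _).1 e).elim (fun e => (show z = σ from e) ▸ h.sK)
        fun e => (show z = σ * τ from e) ▸ mul_mem h.sK h.tK)⟩
  have cQ : 2 * Nat.card Q = Nat.card (Cen1 τ) := by
    rw [← f.ker.card_mul_index, index_ker, MonoidHom.range_eq_top.2 hf, card_top, hk,
      Nat.card_congr (subgroupOfEquivOfLe (zpowers_le.2 (c1.2 rfl))).toEquiv, Nat.card_zpowers,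
      h.f4.ht]
  have tos : ∀ y : Q, orderOf y = 2 → ∃ g, g * y * g⁻¹ = f ⟨σ, h.f4.aH⟩ := fun y hy => by
    obtain ⟨c, rfl⟩ := hf y
    have t : Tr (Dl Ω τ) (c.1 * c.1) := fun x hx => by
      rcases (ker (c * c)).1 (by rw [map_mul, ii hy]) with e | e <;>
        rw [show c.1 * c.1 = _ from e]
      exacts [one_smul _ x, mem_Dl.1 hx]
    have cE : c.1 ∈ EE Ω τ := by
      by_cases t0 : Tr (Dl Ω τ) c.1
      · exact mem_EE.2 ⟨c.2, fun e => ine hy ((ker c).2 (Or.inl e)),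
          fun e => ine hy ((ker c).2 (Or.inr e)), a, h.aD, b, h.bD, h.ne, t0 a h.aD, t0 b h.bD⟩
      · obtain ⟨g, hg, v, hv, e⟩ := h.swap_conj z1 z2 z3 c.2 t t0
        have := h.E_conj (e ▸ zE v hv) (inv_mem hg)
        rwa [show g⁻¹ * (g * c.1 * g⁻¹) * g⁻¹⁻¹ = c.1 by group] at this
    obtain ⟨g, hg, e⟩ := h.E_to cE
    refine ⟨f ⟨g, hg⟩, ?_⟩
    rw [← map_inv, ← map_mul, ← map_mul, eq]
    exact e.imp_right fun e => e.trans h.f4.c
  obtain ⟨c, k, q, s, h1, h2, h3, h4⟩ := gw4 (X := Q) (by omega) (fun u _ v _ hu hv => by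
    obtain ⟨g, e1⟩ := tos u hu
    obtain ⟨g', e2⟩ := tos v hv
    refine ⟨g'⁻¹ * g, trivial, ?_⟩
    rw [mul_inv_rev, mul_assoc, mul_assoc, ← mul_assoc _ g⁻¹, ← mul_assoc g, ← mul_assoc g, e1, ← e2]
    group) F
  have m1 : (Cen1 (f ⟨σ, h.f4.aH⟩)).comap f = (HH τ σ).subgroupOf (Cen1 τ) := by
    ext c
    rw [mem_comap, cen, mem_subgroupOf]
    refine ⟨fun e => ⟨c.2, mem_normalizer_of_map_conj_eq ?_⟩,
      fun e => (h.f4.fix_or e.2 e.1).imp_right fun e => e.trans h.f4.c⟩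
    change conjS c.1 _ = _
    rw [conj_V, c1'.1 c.2]
    rcases e with e | e <;> rw [show c.1 * σ * c.1⁻¹ = _ from e]
    rw [← h.f4.c, h.f4.V_mul]
  have m2 : (Cen1 (f ⟨z, zC⟩) ⊓ Cen1 (f ⟨σ, h.f4.aH⟩)).comap f ≤
      (HH τ σ ⊓ stabilizer G x).subgroupOf (Cen1 τ) := fun c hc => by
    have h5 : c.1 ∈ HH τ σ := m1.le hc.2
    exact ⟨h5, fx _ h5 ((cen _ _).1 hc.1)⟩
  have m3 := index_dvd_of_le m2
  rw [index_comap_of_surjective _ hf, ← relIndex_mul_index inf_le_right, inf_relIndex_right, h2,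
    ← index_comap_of_surjective _ hf, m1] at m3
  rw [← index_comap_of_surjective _ hf, m1] at h3
  change (HH τ σ).relIndex (Cen1 τ) = _ at h3
  change (HH τ σ ⊓ stabilizer G x).relIndex (Cen1 τ) ∣ c * k * (HH τ σ).relIndex (Cen1 τ) at m3
  rw [← relIndex_mul_relIndex _ (HH τ σ) _ inf_le_left inf_le_left] at m3
  have m4 := card_mul_relIndex (inf_le_left : HH τ σ ⊓ stabilizer G x ≤ HH τ σ)
  rw [h.sH.toTT.card1 hx, mul_comm] at m4
  rw [Nat.eq_of_mul_eq_mul_right Nat.card_pos m4] at m3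
  have m5 := card_mul_relIndex (inf_le_left : HH τ σ ≤ Cen1 τ)
  have m6 : c * k ≠ 0 := h2 ▸ index_ne_zero_of_finite
  obtain ⟨j, hj⟩ : ∃ j, (Ph Ω τ σ).card = j + 2 := ⟨(Ph Ω τ σ).card - 2, by have := h.j2; omega⟩
  rw [h.cH, h.cC, hi, hj, show 2 * (j + 2) - 1 = 2 * j + 3 by omega,
    show (j + 2) * (2 * j + 3) - 1 = (2 * j + 5) * (j + 1) from Nat.sub_eq_of_eq_add (by ring),
    show j + 2 - 1 = j + 1 from rfl] at m5
  have m7 : (HH τ σ).relIndex (Cen1 τ) = (2 * j + 3) * (2 * j + 5) :=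
    Nat.eq_of_mul_eq_mul_left (show 0 < (j + 2) * (j + 1) * 4 by positivity) (m5.trans (by ring))
  rw [m7] at h3 m3
  obtain ⟨t, ht⟩ := Nat.dvd_of_mul_dvd_mul_right (by positivity) m3
  have m8 := numA h1 (Nat.pos_of_ne_zero m6) h4
  rw [← h3, ht, hj] at m8
  rw [hj] at ht
  obtain rfl : t = 1 := by
    by_contra e
    have : 2 ≤ t := by rcases t with _ | _ | t <;> omega
    have : (j + 2) * 2 ≤ (j + 2) * t := Nat.mul_le_mul_left _ this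
    nlinarith
  obtain rfl : c = 1 := by
    refine Nat.dvd_one.1 ((Nat.dvd_add_right (show c ∣ (2 * j + 3) * (2 * j + 5) from
      ⟨c * (q * s), by rw [h3]; ring⟩)).1 ⟨k * (4 * (j + 2)), ?_⟩)
    rw [← mul_assoc, ht]; ring
  rcases h4 with ⟨rfl, rfl⟩ | ⟨h8, h9⟩
  · rw [show k = j + 2 by omega] at h3; nlinarith
  · rw [show q = 4 * j + 7 by omega, show s = 2 * j + 3 by omega] at h3; nlinarith

theorem X2_false (hm : m = 3 ∨ m = 15) : False := by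
  by_cases e : (Dl Ω τ).card = (Ph Ω τ σ).card
  · rcases Nat.mod_two_eq_zero_or_one (Dl Ω τ).card with ho | ho
    exacts [h.X2_a_even z1 z2 z3 z0 e ho, h.X2_a_odd z1 z2 z3 z0 e ho]
  · rcases Nat.mod_two_eq_zero_or_one (Ph Ω τ σ).card with ho | ho
    exacts [h.X2_b_even z1 z2 z3 z0 hm e ho, h.X2_b_odd z1 z2 z3 z0 e ho]

end Cf

end T2
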