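import Cfsg.Agent.T2.Set
import Cfsg.Agent.T2.Gwn
import Cfsg.Agent.H7.CyclicTwo

/-! Regular normal subgroups; the case of a dihedral setwise stabiliser. -/

set_option autoImplicit false
set_option linter.unusedVariables false
set_option linter.unusedSectionVars false
set_option linter.style.haveILetI false

namespace T2

open Cfsg Subgroup FT H4 H5 GW MulAction Finset
open scoped Classical

variable {G : Type*} [Group G] [Fintype G]

theorem ab_normal : ∀ (n : ℕ) (Q : Subgroup G), Nat.card Q = n → Q.Normal → Group.IsSolvable Q →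
    Q ≠ ⊥ → ∃ N ≤ Q, N.Normal ∧ N ≠ ⊥ ∧ N ≤ Cen N := by
  intro n
  induction n using Nat.strong_induction_on with
  | _ n ih =>
    intro Q e h1 h2 h3
    by_cases h : ⁅Q, Q⁆ = ⊥
    · exact ⟨Q, le_rfl, h1, h3, commutator_eq_bot_iff_le_centralizer.1 h⟩
    · have h4 := commutator_lt_self h2 h3
      obtain ⟨N, h5, h6⟩ := ih _ (e ▸ card_lt_of_lt h4) _ rfl inferInstance
        (H5.isSolvable_of_le h4.le h2) h
      exact ⟨N, h5.trans h4.le, h6⟩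

theorem cyc_of_central {A : Type*} [Group A] [Finite A] (h1 : IsPGroup 2 A)
    (h2 : ∀ x y : A, orderOf x = 2 → orderOf y = 2 → x = y) {w : A} (h3 : w * w ≠ 1)
    (h4 : ∀ x, w * x = x * w) : IsCyclic A := by
  refine (H7.isCyclic_or_quaternion h1 (H7.rank_le_one_of_unique_involution h2)).resolve_right ?_
  rintro ⟨n, ⟨e⟩⟩
  have h5 : ∀ x, e w * x = x * e w := fun x => by
    obtain ⟨x, rfl⟩ := e.surjective x
    rw [← map_mul, h4, map_mul]
  rw [← e.injective.ne_iff, map_mul, map_one] at h3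
  generalize e w = v at h3 h5
  rcases v with i | i
  · have := h5 (QuaternionGroup.xa 0)
    simp only [QuaternionGroup.a_mul_xa, QuaternionGroup.xa_mul_a, QuaternionGroup.xa.injEq] at this
    refine h3 ?_
    rw [QuaternionGroup.a_mul_a, QuaternionGroup.one_def]
    congr 1
    linear_combination -this
  · have := h5 (QuaternionGroup.a 1)
    simp only [QuaternionGroup.a_mul_xa, QuaternionGroup.xa_mul_a, QuaternionGroup.xa.injEq] at this
    have e2 : ((2 : ℕ) : ZMod (2 * 2 ^ (n + 1))) = 0 := by push_cast; linear_combination this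
    rw [ZMod.natCast_eq_zero_iff] at e2
    have := Nat.le_of_dvd (by norm_num) e2
    have : 0 < 2 ^ n := by positivity
    rw [pow_succ] at *
    omega

variable {Ω : Type*} [Fintype Ω] [MulAction G Ω] [FaithfulSMul G Ω]

/-- an abelian regular normal subgroup -/
structure RG (Ω : Type*) [MulAction G Ω] (N : Subgroup G) : Prop where
  nor : N.Normal
  comm : N ≤ Cen N
  tr : ∀ x y : Ω, ∃ n ∈ N, n • x = y
  free : ∀ n ∈ N, ∀ x : Ω, n • x = x → n = 1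

theorem ntrans (h : TT (⊤ : Subgroup G) (univ : Finset Ω)) {N : Subgroup G} (h1 : N.Normal)
    (h2 : N ≠ ⊥) (x y : Ω) : ∃ n ∈ N, n • x = y := by
  by_cases e : x = y
  · exact ⟨1, one_mem _, by rw [one_smul, e]⟩
  obtain ⟨⟨n, hn⟩, n1⟩ := ne_bot_iff_exists_ne_one.1 h2
  obtain ⟨z, hz⟩ := ex_move (Ω := Ω) (fun e : n = 1 => n1 (Subtype.ext e))
  obtain ⟨g, -, rfl, rfl⟩ := h.two z (mem_univ _) _ (mem_univ _) x (mem_univ _) y (mem_univ _)
    hz.symm e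
  exact ⟨_, h1.conj_mem n hn g, by simp [mul_smul]⟩

theorem ex_RG (h : TT (⊤ : Subgroup G) (univ : Finset Ω)) {Q : Subgroup G} (h1 : Q.Normal)
    (h2 : Group.IsSolvable Q) (h3 : Q ≠ ⊥) : ∃ N ≤ Q, RG Ω N := by
  obtain ⟨N, h4, h5, h6, h7⟩ := ab_normal _ Q rfl h1 h2 h3
  refine ⟨N, h4, h5, h7, ntrans h h5 h6, fun n hn x e => eq_of_smul_eq_smul (α := Ω) fun y => ?_⟩
  obtain ⟨k, hk, rfl⟩ := ntrans h h5 h6 x y
  rw [← mul_smul, cen.1 (h7 hn) k hk, mul_smul, e, one_smul]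

theorem RG.eq {N : Subgroup G} (h : RG Ω N) {u v : G} (hu : u ∈ N) (hv : v ∈ N) {x : Ω}
    (e : u • x = v • x) : u = v :=
  (inv_mul_eq_one.1 (h.free _ (mul_mem (inv_mem hv) hu) x (by
    rw [mul_smul, e, inv_smul_smul]))).symm

theorem RG.card {N : Subgroup G} (h : RG Ω N) (a : Ω) : Nat.card N = Fintype.card Ω := by
  rw [← Nat.card_eq_fintype_card]
  exact Nat.card_congr (Equiv.ofBijective (fun n => n.1 • a) ⟨fun u v e => Subtype.ext
    (h.eq u.2 v.2 e), fun y => let ⟨n, hn, e⟩ := h.tr a y; ⟨⟨n, hn⟩, e⟩⟩)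

theorem RG.conj {N : Subgroup G} (h : RG Ω N) (h2 : TT (⊤ : Subgroup G) (univ : Finset Ω)) (a : Ω)
    {u v : G} (hu : u ∈ N) (hv : v ∈ N) (u1 : u ≠ 1) (v1 : v ≠ 1) :
    ∃ g : G, g • a = a ∧ g * u * g⁻¹ = v := by
  obtain ⟨g, -, e1, e2⟩ := h2.two a (mem_univ _) (u • a) (mem_univ _) a (mem_univ _) (v • a)
    (mem_univ _) (fun e => u1 (h.free u hu a e.symm)) (fun e => v1 (h.free v hv a e.symm))
  refine ⟨g, e1, h.eq (h.nor.conj_mem u hu g) hv (x := a) ?_⟩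
  rw [mul_smul, mul_smul, inv_smul_eq_iff.2 e1.symm, e2]

theorem RG.prime {N : Subgroup G} (h : RG Ω N) (h2 : TT (⊤ : Subgroup G) (univ : Finset Ω)) (a : Ω)
    {p q : ℕ} (hp : p.Prime) (hq : q.Prime) (h3 : p ∣ Fintype.card Ω) (h4 : q ∣ Fintype.card Ω) :
    p = q := by
  haveI := Fact.mk hp
  haveI := Fact.mk hq
  rw [← h.card a] at h3 h4
  obtain ⟨⟨u, hu⟩, ou⟩ := exists_prime_orderOf_dvd_card' p h3
  obtain ⟨⟨v, hv⟩, ov⟩ := exists_prime_orderOf_dvd_card' q h4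
  rw [Subgroup.orderOf_mk] at ou ov
  obtain ⟨g, -, rfl⟩ := h.conj h2 a hu hv (by rintro rfl; exact hp.one_lt.ne (by simpa using ou))
    (by rintro rfl; exact hq.one_lt.ne (by simpa using ov))
  rw [← ou, ← ov, oconj]

namespace Cf

variable {m d : ℕ} {a b : Ω} {τ σ : G} (h : Cf m d a b τ σ)
include h

theorem moveP {x y : Ω} (hx : x ∈ Ph Ω τ σ) (hy : y ∈ Ph Ω τ σ) (ne : x ≠ y) : Cf m d x y τ σ :=
  ⟨h.toHy, ne, h.f4, h.V_eq hx hy ne⟩

theorem rel_H {R : Subgroup G} (hR : R ≤ HH τ σ) : R ≤ Cen1 σ ∨ (Cen1 σ).relIndex R = 2 := by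
  have h1 : (Cen1 σ).relIndex R ≤ 2 := by
    rw [← card_class_in, ← card_pair h.f4.mul'.ne, ← Fintype.card_coe, ← Nat.card_eq_fintype_card]
    refine Nat.card_le_card_of_injective (fun u => ⟨u.1, ?_⟩) fun u v e =>
      Subtype.ext (Subtype.mk.inj e)
    obtain ⟨u, g, hg, rfl⟩ := u
    simpa using (h.f4.fix_or (hR hg).2 (hR hg).1).symm
  have h2 : (Cen1 σ).relIndex R ≠ 0 := index_ne_zero_of_finite
  rw [← relIndex_eq_one]
  omega

theorem le_cs {R : Subgroup G} (hR : R ≤ HH τ σ) {S : Subgroup G} (h1 : S ≤ R) (h2 : S ≤ Cen1 σ)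
    (h3 : ¬ 2 ∣ S.relIndex R) : R ≤ Cen1 σ :=
  (h.rel_H hR).resolve_right fun e => h3 (e ▸ relIndex_dvd_of_le_left R h2)

theorem Ha_le (ho : (Ph Ω τ σ).card % 2 = 0) : HH τ σ ⊓ stabilizer G a ≤ Cen1 σ := by
  have h1 : V4 τ σ ≤ HH τ σ ⊓ stabilizer G a := le_inf h.VH (h.V_Ph h.aP)
  refine h.le_cs inf_le_left h1 (V_le h.f4.tH (c1.2 rfl)) ?_
  have := card_mul_relIndex h1
  rw [h.cHa, h.f4.card_V] at this
  have := h.j2
  omega

theorem cs_le : Cen1 τ ⊓ Cen1 σ ≤ HH τ σ := le_inf inf_le_left (cnor (cen_V τ σ).ge)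

theorem ij : (((EE Ω τ).filter fun e => e • a = b).card = 0 ∧ (Dl Ω τ).card = (Ph Ω τ σ).card) ∨
    (((EE Ω τ).filter fun e => e • a = b).card = 2 ∧ (Dl Ω τ).card = (Ph Ω τ σ).card ^ 2) ∨
    (((EE Ω τ).filter fun e => e • a = b).card = 4 ∧
      (Dl Ω τ).card = (Ph Ω τ σ).card * (2 * (Ph Ω τ σ).card - 1)) ∨
    6 ≤ ((EE Ω τ).filter fun e => e • a = b).card := by
  have h1 := h.N2
  obtain ⟨k, hk⟩ := h.even_s
  have h2 := h.j2
  have h3 := h.ji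
  rw [hk] at h1 ⊢
  obtain ⟨j, hj⟩ : ∃ j, (Ph Ω τ σ).card = j + 1 := ⟨(Ph Ω τ σ).card - 1, by omega⟩
  obtain ⟨i, hi⟩ := Nat.exists_eq_add_of_le h3
  rw [hi, hj] at h1 ⊢
  simp only [Nat.add_sub_cancel_left, Nat.add_sub_cancel] at h1
  rw [show 2 * (j + 1) - 1 = 2 * j + 1 by omega]
  rcases (show k = 0 ∨ k = 1 ∨ k = 2 ∨ 3 ≤ k by omega) with rfl | rfl | rfl | e
  · left; omega
  · right; left; exact ⟨rfl, by nlinarith⟩
  · right; right; left; exact ⟨rfl, by nlinarith⟩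
  · right; right; right; omega

theorem coset {u e : G} (hu : u ∈ Cen1 τ) (he : e ∈ Cen1 τ) (u2 : u * u ∈ St G a b)
    (e2 : e * e ∈ St G a b) (h1 : u • a = b) (h2 : e • a = b) :
    e = u ∨ e = u * τ ∨ e = u * σ ∨ e = u * (τ * σ) := by
  simpa only [inv_mul_eq_iff_eq_mul, mul_one] using
    h.f4.mem_V.1 (h.mem_V (mul_mem (inv_mem hu) he) (h.swap_K u2 e2 h1 h2))

section Y

variable {w : G} (w1 : w • a = b) (w2 : w * w = τ) (w3 : w * σ * w⁻¹ = τ * σ)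
include w1 w2 w3

theorem wC : w ∈ Cen1 τ := c1.2 (by rw [← w2, mul_assoc])

theorem wt_sq : w * τ * (w * τ) = τ := by
  rw [mul_assoc, ← mul_assoc τ, ← c1.1 (h.wC w1 w2 w3), mul_assoc, ii h.f4.ht, mul_one, w2]

theorem ws_sq : w * σ * (w * σ) = 1 := by
  nth_rewrite 1 [mul_inv_eq_iff_eq_mul.1 w3]
  rw [mul_assoc, ← mul_assoc w, w2, h.f4.sq]

theorem wts_sq : w * (τ * σ) * (w * (τ * σ)) = 1 := by
  have : w * (τ * σ) = σ * w := by
    rw [← mul_assoc, c1.1 (h.wC w1 w2 w3), mul_assoc, mul_inv_eq_iff_eq_mul.1 w3, ← mul_assoc,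
      h.f4.tta]
  nth_rewrite 1 [this]
  rw [mul_assoc, ← mul_assoc w, w2, h.f4.tta, ii h.f4.ha]

theorem Y_ij : (Dl Ω τ).card = (Ph Ω τ σ).card ∨ (Dl Ω τ).card = (Ph Ω τ σ).card ^ 2 := by
  have : ((EE Ω τ).filter fun e => e • a = b).card ≤ 2 := by
    refine (card_le_card fun e he => ?_).trans (card_le_two (a := w * σ) (b := w * (τ * σ)))
    obtain ⟨h1, h2⟩ := mem_filter.1 he
    have h3 := ii (mem_DD.1 (h.E_D h1)).1
    rcases h.coset (h.wC w1 w2 w3) (mem_EE.1 h1).1 (w2 ▸ h.tK) (h3 ▸ one_mem _) w1 h2 with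
      rfl | rfl | rfl | rfl
    · exact absurd (w2.symm.trans h3) (ine h.f4.ht)
    · exact absurd ((h.wt_sq w1 w2 w3).symm.trans h3) (ine h.f4.ht)
    · simp
    · simp
  have := h.ij
  omega

theorem wH : w ∈ HH τ σ := ⟨h.wC w1 w2 w3, mem_normalizer_of_map_conj_eq (by
  change conjS w _ = _
  rw [conj_V, c1'.1 (h.wC w1 w2 w3), w3, h.f4.V_mul])⟩

theorem w_not : w ∉ Cen1 σ := fun e => h.f4.mul'.ne (w3.symm.trans (c1'.1 e))

theorem Y_even (ho : (Ph Ω τ σ).card % 2 = 0) : (Ph Ω τ σ).card = 2 := by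
  by_contra e
  obtain ⟨c, hc, h1⟩ : ∃ c ∈ Ph Ω τ σ, c ∉ ({a, b} : Finset Ω) :=
    exists_mem_notMem_of_card_lt_card (by have := h.j2; rw [card_pair h.ne]; omega)
  simp only [mem_insert, mem_singleton, not_or] at h1
  obtain ⟨g, hg, e1, e2⟩ := h.sH.two c hc a h.aP c hc b h.bP h1.1 h1.2
  have h2 := (h.moveP hc h.aP h1.1).Ha_le ho ⟨hg, e1⟩
  have h3 := h.Ha_le ho (x := g⁻¹ * w) ⟨(HH τ σ).mul_mem (inv_mem hg) (h.wH w1 w2 w3),
    mem_stabilizer_iff.2 (by rw [mul_smul, w1, inv_smul_eq_iff, e2])⟩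
  exact h.w_not w1 w2 w3 (by simpa using mul_mem h2 h3)

theorem Y_B : (Cen1 σ).relIndex (Cen1 τ) * ((Ph Ω τ σ).card * ((Ph Ω τ σ).card - 1)) =
    2 * ((Dl Ω τ).card * ((Dl Ω τ).card - 1)) := by
  have e1 := card_inf_mul_relIndex (Cen1 σ) (Cen1 τ)
  have e2 := card_inf_mul_relIndex (Cen1 σ) (HH τ σ)
  rw [(h.rel_H le_rfl).resolve_left fun e => h.w_not w1 w2 w3 (e (h.wH w1 w2 w3)), h.cH,
    show Cen1 σ ⊓ HH τ σ = Cen1 σ ⊓ Cen1 τ from le_antisymm (inf_le_inf_left _ inf_le_left)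
      (le_inf inf_le_left (inf_comm (Cen1 τ) _ ▸ h.cs_le))] at e2
  rw [h.cC] at e1
  nlinarith

theorem Y_pair (ho : (Dl Ω τ).card % 2 = 1) : ∃ x ∈ Dl Ω τ, w • x = x ∧
    ∀ y : G, y * y = τ → y • x = x → y = w ∨ y = w * τ := by
  set E := univ.filter fun y : G => y * y = τ with hE
  have mE : ∀ {y}, y ∈ E ↔ y * y = τ := by simp [hE]
  have c : ∀ y ∈ E, y ∈ Cen1 τ := fun y hy => c1.2 (by rw [← mE.1 hy, mul_assoc])
  have k : ∀ y ∈ E, ∀ g ∈ Cen1 τ, g * y * g⁻¹ ∈ E := fun y hy g hg =>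
    mE.2 (by rw [conj_mul, mE.1 hy, c1'.1 hg])
  have f : ∀ y ∈ E, (Fx (Dl Ω τ) y).card = 1 := fun y hy => by
    have h1 := parity (h.tC.mem y (c y hy)) fun x hx => by rw [← mul_smul, mE.1 hy, mem_Dl.1 hx]
    have h2 : (Fx (Dl Ω τ) y).card ≤ 1 := card_le_one.2 fun x hx x' hx' => by
      by_contra e
      exact ine h.f4.ht ((mE.1 hy).symm.trans (h.sq_fix (mem_Fx.1 hx).1 (mem_Fx.1 hx').1 e (c y hy)
        ⟨(mem_Fx.1 hx).2, (mem_Fx.1 hx').2⟩))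
    omega
  have ne : w ≠ w * τ := fun e => ine h.f4.ht (by simpa using e)
  obtain ⟨x, hx⟩ := card_pos.1 ((f w (mE.2 w2)).symm ▸ Nat.one_pos)
  obtain ⟨x1, x2⟩ := mem_Fx.1 hx
  have e1 := h.tC.cnt_move c k f h.aD h.bD h.ne
  have e2 := h.tC.cnt1 k f x1
  have e3 : (E.filter fun e => e • a = b).card ≤ 2 := by
    refine (card_le_card fun e he => ?_).trans (card_le_two (a := w) (b := w * τ))
    obtain ⟨h1, h2⟩ := mem_filter.1 he
    rcases h.coset (h.wC w1 w2 w3) (c e h1) (w2 ▸ h.tK) (mE.1 h1 ▸ h.tK) w1 h2 with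
      rfl | rfl | rfl | rfl
    · simp
    · simp
    · exact absurd ((mE.1 h1).symm.trans (h.ws_sq w1 w2 w3)) (ine h.f4.ht)
    · exact absurd ((mE.1 h1).symm.trans (h.wts_sq w1 w2 w3)) (ine h.f4.ht)
  have e4 : (E.filter fun e => e • x = x).card ≤ 2 := by
    have := h.j2
    have := h.ji
    rw [mul_one] at e2
    rw [e2, mul_right_comm] at e1
    rw [Nat.eq_of_mul_eq_mul_left (Nat.mul_pos (by omega) (by omega)) e1]
    exact e3
  have e5 : {w, w * τ} = E.filter fun e => e • x = x := by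
    refine eq_of_subset_of_card_le (fun y hy => ?_) (by rw [card_pair ne]; exact e4)
    rcases mem_insert.1 hy with rfl | hy
    · exact mem_filter.2 ⟨mE.2 w2, x2⟩
    · rw [mem_singleton.1 hy]
      exact mem_filter.2 ⟨mE.2 (h.wt_sq w1 w2 w3), by rw [mul_smul, mem_Dl.1 x1, x2]⟩
  refine ⟨x, x1, x2, fun y y1 y2 => ?_⟩
  have : y ∈ ({w, w * τ} : Finset G) := e5 ▸ mem_filter.2 ⟨mE.2 y1, y2⟩
  simpa using this

theorem Y_D2 (h1 : OneCl (⊤ : Subgroup G)) (ho : (Dl Ω τ).card % 2 = 1) : D2 G := by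
  obtain ⟨x, x1, x2, x3⟩ := h.Y_pair w1 w2 w3 ho
  have wC := h.wC w1 w2 w3
  obtain ⟨S, hS, wS⟩ := exists_isSylowOf_ge (q := 2) (Q := zpowers w)
    (K := Cen1 τ ⊓ stabilizer G x) (H9.isPGroup_zpowers (k := 2) (by
      rw [show 2 ^ 2 = 2 * 2 from rfl, pow_mul, pow_two, pow_two, w2, ii h.f4.ht]))
    (zpowers_le.2 ⟨wC, x2⟩)
  replace wS := wS (mem_zpowers w)
  obtain ⟨S', rfl⟩ := IsSylowOf.exists_sylow_top (q := 2) (P := S) ⟨le_top, hS.2, by
    have e1 := h.tC.card1 x1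
    have e2 := card_mul_relIndex (inf_le_left : Cen1 τ ⊓ stabilizer G x ≤ Cen1 τ)
    rw [e1, mul_comm] at e2
    rw [relIndex_top_right, ← relIndex_mul_index hS.1,
      ← relIndex_mul_index (inf_le_left : Cen1 τ ⊓ stabilizer G x ≤ Cen1 τ),
      Nat.eq_of_mul_eq_mul_right Nat.card_pos e2, Nat.prime_two.dvd_mul, Nat.prime_two.dvd_mul]
    have := Nat.odd_iff.1 (odd_index_c1 h1 h.f4.ht)
    have := hS.3
    omega⟩
  have u : ∀ t ∈ (S' : Subgroup G) ⊓ Cen1 w, orderOf t = 2 → t = τ := fun t ht ot => by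
    rcases x3 (w * t) (by rw [mul_assoc, ← mul_assoc t, c1.1 ht.2, mul_assoc, ii ot, mul_one, w2])
      (by rw [mul_smul, (hS.1 ht.1).2, x2]) with e | e
    · exact absurd (by simpa using e) (ine ot)
    · simpa using e
  have hc : IsCyclic ↥((S' : Subgroup G) ⊓ Cen1 w) := cyc_of_central (hS.2.to_le inf_le_left)
    (fun s t hs ht => Subtype.ext ((u _ s.2 (by simpa using hs)).trans
      (u _ t.2 (by simpa using ht)).symm)) (w := ⟨w, wS, c1.2 rfl⟩)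
    (fun e => ine h.f4.ht (w2.symm.trans (congrArg Subtype.val e)))
    fun s => Subtype.ext (c1.1 s.2.2).symm
  obtain ⟨g, hg⟩ := (Subgroup.isCyclic_iff_exists_zpowers_eq_top _).1 hc
  have wt : w * τ = w⁻¹ := by rw [eq_inv_iff_mul_eq_one, mul_assoc, ← c1.1 wC, ← mul_assoc, w2,
    ii h.f4.ht]
  have iv : ∀ y ∈ (S' : Subgroup G), y ∉ Cen1 w → y * w * y⁻¹ = w⁻¹ := fun y hy y0 =>
    wt ▸ (x3 _ (by rw [conj_mul, w2, c1'.1 (hS.1 hy).1])
      (hS.1 (mul_mem (mul_mem hy wS) (inv_mem hy))).2).resolve_left fun e => y0 (c1'.2 e)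
  have ml : ∀ y ∈ (S' : Subgroup G), y ∉ Cen1 w → ∀ z ∈ (S' : Subgroup G), z ∉ Cen1 w →
      y * z ∈ Cen1 w := fun y hy y0 z hz z0 => c1'.2 (by
    rw [mul_inv_rev, mul_assoc y, mul_assoc y, ← mul_assoc _ z⁻¹, iv z hz z0, ← mul_assoc,
      ← conj_inv, iv y hy y0, inv_inv])
  have sq : ∀ y ∈ (S' : Subgroup G), y ∉ Cen1 w → y * y = 1 := fun y hy y0 => by
    by_contra e
    obtain ⟨k, hk⟩ := (isPGroup_iff_forall.1 hS.2) y hy
    obtain ⟨k, -, hk⟩ := (Nat.dvd_prime_pow Nat.prime_two).1 (orderOf_dvd_of_pow_eq_one hk)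
    obtain ⟨k, rfl⟩ : ∃ l, k = l + 2 := by
      rcases k with _ | _ | k
      · rw [orderOf_eq_one_iff.1 hk] at e; simp at e
      · exact absurd (ii hk) e
      · exact ⟨k, rfl⟩
    have e1 : y ^ 2 ^ k * y ^ 2 ^ k = τ := by
      rw [← pow_two, ← pow_mul, ← pow_succ]
      refine u _ ⟨pow_mem hy _, ?_⟩ (by
        rw [orderOf_pow_of_dvd (by positivity) (hk ▸ pow_dvd_pow 2 (by omega)), hk, pow_succ,
          Nat.mul_div_cancel_left _ (by positivity)])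
      rw [pow_succ', pow_mul, pow_two]
      exact pow_mem (ml y hy y0 y hy y0) _
    have e2 : y ∈ Cen1 (y ^ 2 ^ k) := c1c.2 ((Commute.refl y).pow_right _)
    rcases x3 _ e1 (hS.1 (pow_mem hy _)).2 with e3 | e3 <;> rw [e3] at e2
    · exact y0 e2
    · rw [wt] at e2
      exact y0 (c1c.2 (by simpa using (c1c.1 e2).inv_right))
  have gm : g ∈ (S' : Subgroup G) ⊓ Cen1 w := hg ▸ mem_zpowers g
  refine D2_of_sylow S' (x := g) fun y hy y0 => ?_
  have y1 : y ∉ Cen1 w := fun e => y0 (hg ▸ ⟨hy, e⟩)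
  refine ⟨sq y hy y1, ?_, fun z hz z0 => hg ▸ ⟨mul_mem hy hz,
    ml y hy y1 z hz fun e => z0 (hg ▸ ⟨hz, e⟩)⟩⟩
  rw [eq_inv_iff_mul_eq_one, inv_eq_of_mul_eq_one_right (sq y hy y1), mul_assoc]
  exact sq _ (mul_mem hy gm.1) fun e => y1 (by simpa using mul_mem e (inv_mem gm.2))

end Y

end Cf

end T2
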